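import Mathlib
/-!
A nonabelian `p`-group `S` with a unique abelian subgroup `A` of index `p`.
-/

set_option autoImplicit false

namespace Cfsg.Agent.Lib.AbelianMaximal

open Subgroup
open scoped commutatorElement

variable {Ω : Type*} [Group Ω]

/-- `A` is the unique abelian subgroup of index `p` of the nonabelian finite `p`-group `S`. -/
structure Setting (p : ℕ) (S A : Subgroup Ω) : Prop where
  isPGroup : IsPGroup p S
  finite : Finite S
  not_comm : ¬ IsMulCommutative S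
  le : A ≤ S
  comm : IsMulCommutative A
  index : (A.subgroupOf S).index = p
  unique : ∀ B : Subgroup Ω, B ≤ S → IsMulCommutative B → (B.subgroupOf S).index = p → B = A

/-- The centre of `S` in the ambient group. -/
def zS (S : Subgroup Ω) : Subgroup Ω := S ⊓ centralizer (S : Set Ω)

theorem comm_of_mem {A : Subgroup Ω} (h : IsMulCommutative A) {a b : Ω} (ha : a ∈ A) (hb : b ∈ A) :
    a * b = b * a :=
  congrArg Subtype.val (h.is_comm.comm ⟨a, ha⟩ ⟨b, hb⟩)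

theorem isMulCommutative_sup_zpowers {B : Subgroup Ω} (hB : IsMulCommutative B) {x : Ω}
    (hx : ∀ b ∈ B, b * x = x * b) : IsMulCommutative (B ⊔ zpowers x : Subgroup Ω) := by
  rw [show B ⊔ zpowers x = closure ((B : Set Ω) ∪ {x}) by
    rw [Subgroup.closure_union, Subgroup.closure_eq, zpowers_eq_closure]]
  refine isMulCommutative_closure ?_
  rintro u (hu | rfl) v (hv | rfl)
  · exact comm_of_mem hB hu hv
  · exact hx u hu
  · exact (hx v hv).symm
  · rfl

variable {p : ℕ} [hp : Fact p.Prime] {S A : Subgroup Ω} (h : Setting p S A)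

namespace Setting

include h

theorem normal : (A.subgroupOf S).Normal := by
  have := h.finite
  refine Subgroup.normal_of_index_eq_minFac_card ?_
  rw [h.index]
  obtain ⟨k, hk⟩ := h.isPGroup.exists_card_eq
  have hk0 : k ≠ 0 := by
    intro h0
    have h1 := (A.subgroupOf S).index_dvd_card
    rw [h.index, hk, h0, pow_zero, Nat.dvd_one] at h1
    exact hp.out.ne_one h1
  rw [hk, Nat.pow_minFac hk0, hp.out.minFac_eq]

theorem conj_mem {s a : Ω} (hs : s ∈ S) (ha : a ∈ A) : s * a * s⁻¹ ∈ A :=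
  h.normal.conj_mem ⟨a, h.le ha⟩ ha ⟨s, hs⟩

theorem pow_mem {x : Ω} (hx : x ∈ S) : x ^ p ∈ A := by
  haveI := h.normal
  have h1 : (QuotientGroup.mk (⟨x, hx⟩ : S) : S ⧸ A.subgroupOf S) ^ p = 1 := by
    conv_lhs => rw [← h.index, Subgroup.index_eq_card]
    exact pow_card_eq_one'
  rw [← QuotientGroup.mk_pow, QuotientGroup.eq_one_iff] at h1
  exact h1

theorem exists_eq_mul {x s : Ω} (hx : x ∈ S) (hxA : x ∉ A) (hs : s ∈ S) :
    ∃ (n : ℤ) (a : Ω), a ∈ A ∧ s = a * x ^ n := by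
  haveI := h.normal
  have hcard : Nat.card (S ⧸ A.subgroupOf S) = p := by rw [← Subgroup.index_eq_card, h.index]
  obtain ⟨n, hn⟩ : QuotientGroup.mk (⟨s, hs⟩ : S) ∈
      zpowers (QuotientGroup.mk (⟨x, hx⟩ : S) : S ⧸ A.subgroupOf S) :=
    mem_zpowers_of_prime_card hcard (fun e => hxA ((QuotientGroup.eq_one_iff (⟨x, hx⟩ : S)).1 e))
  refine ⟨n, s * (x ^ n)⁻¹, ?_, by group⟩
  have h2 : ((⟨s, hs⟩ : S) * ((⟨x, hx⟩ : S) ^ n)⁻¹) ∈ A.subgroupOf S := by
    rw [← QuotientGroup.eq_one_iff, QuotientGroup.mk_mul, QuotientGroup.mk_inv, QuotientGroup.mk_zpow]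
    exact mul_inv_eq_one.2 hn.symm
  exact h2

theorem zS_le : zS S ≤ A := by
  intro z hz
  by_contra hzA
  refine h.not_comm ⟨⟨fun u v => Subtype.ext ?_⟩⟩
  obtain ⟨i, a, ha, hu⟩ := h.exists_eq_mul hz.1 hzA u.2
  obtain ⟨j, b, hb, hv⟩ := h.exists_eq_mul hz.1 hzA v.2
  have hz' : ∀ t ∈ S, t * z = z * t := fun t ht => mem_centralizer_iff.1 hz.2 t ht
  show (u : Ω) * v = v * u
  rw [hu, hv]
  have e1 : Commute (z ^ i) b := ((show Commute b z from hz' b (h.le hb)).zpow_right i).symm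
  have e2 : Commute (z ^ j) a := ((show Commute a z from hz' a (h.le ha)).zpow_right j).symm
  calc a * z ^ i * (b * z ^ j) = a * (z ^ i * b) * z ^ j := by group
    _ = a * b * (z ^ i * z ^ j) := by rw [e1.eq]; group
    _ = b * a * (z ^ j * z ^ i) := by rw [comm_of_mem h.comm ha hb, (Commute.zpow_zpow_self z i j).eq]
    _ = b * (a * z ^ j) * z ^ i := by group
    _ = b * (z ^ j * a) * z ^ i := by rw [← e2.eq]
    _ = b * z ^ j * (a * z ^ i) := by group

theorem mem_zS_of_commute {x a : Ω} (hx : x ∈ S) (hxA : x ∉ A) (ha : a ∈ A) (hc : a * x = x * a) :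
    a ∈ zS S := by
  refine ⟨h.le ha, mem_centralizer_iff.2 fun t ht => ?_⟩
  obtain ⟨n, b, hb, rfl⟩ := h.exists_eq_mul hx hxA ht
  have e : Commute (x ^ n) a := ((show Commute a x from hc).zpow_right n).symm
  rw [mul_assoc, e.eq, ← mul_assoc, comm_of_mem h.comm hb ha, mul_assoc]

theorem pow_mem_zS {x : Ω} (hx : x ∈ S) (hxA : x ∉ A) : x ^ p ∈ zS S :=
  h.mem_zS_of_commute hx hxA (h.pow_mem hx) (Commute.pow_self x p).eq

/-- The commutation map `a ↦ a x a⁻¹ x⁻¹`. -/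
def cHom {x : Ω} (hx : x ∈ S) : A →* Ω where
  toFun a := (a : Ω) * x * (a : Ω)⁻¹ * x⁻¹
  map_one' := by simp
  map_mul' a b := by
    have hb : (b : Ω) * x * (b : Ω)⁻¹ * x⁻¹ ∈ A := by
      rw [show (b : Ω) * x * (b : Ω)⁻¹ * x⁻¹ = b * (x * (b : Ω)⁻¹ * x⁻¹) by group]
      exact mul_mem b.2 (h.conj_mem hx (inv_mem b.2))
    have ha : (a : Ω) * x * (a : Ω)⁻¹ * x⁻¹ ∈ A := by
      rw [show (a : Ω) * x * (a : Ω)⁻¹ * x⁻¹ = a * (x * (a : Ω)⁻¹ * x⁻¹) by group]
      exact mul_mem a.2 (h.conj_mem hx (inv_mem a.2))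
    have e := comm_of_mem h.comm a.2 hb
    simp only [Subgroup.coe_mul]
    calc (a : Ω) * b * x * ((a : Ω) * b)⁻¹ * x⁻¹
        = (a : Ω) * ((b : Ω) * x * (b : Ω)⁻¹ * x⁻¹) * (x * (a : Ω)⁻¹ * x⁻¹) := by group
      _ = ((b : Ω) * x * (b : Ω)⁻¹ * x⁻¹) * ((a : Ω) * x * (a : Ω)⁻¹ * x⁻¹) := by rw [e]; group
      _ = _ := comm_of_mem h.comm hb ha

/-- `[A, x]`, which is the derived subgroup of `S`. -/
def dSub {x : Ω} (hx : x ∈ S) : Subgroup Ω := (h.cHom hx).range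

theorem dSub_le {x : Ω} (hx : x ∈ S) : h.dSub hx ≤ A := by
  rintro _ ⟨a, rfl⟩
  show (a : Ω) * x * (a : Ω)⁻¹ * x⁻¹ ∈ A
  rw [show (a : Ω) * x * (a : Ω)⁻¹ * x⁻¹ = a * (x * (a : Ω)⁻¹ * x⁻¹) by group]
  exact mul_mem a.2 (h.conj_mem hx (inv_mem a.2))

theorem ker_cHom {x : Ω} (hx : x ∈ S) (hxA : x ∉ A) : (h.cHom hx).ker = (zS S).subgroupOf A := by
  ext a
  rw [MonoidHom.mem_ker, mem_subgroupOf]
  constructor
  · intro e
    refine h.mem_zS_of_commute hx hxA a.2 ?_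
    exact mul_inv_eq_iff_eq_mul.1 (mul_inv_eq_one.1 (e : (a : Ω) * x * (a : Ω)⁻¹ * x⁻¹ = 1))
  · intro e
    show (a : Ω) * x * (a : Ω)⁻¹ * x⁻¹ = 1
    rw [← mem_centralizer_iff.1 e.2 x hx]
    group

theorem dSub_le_commutator {x : Ω} (hx : x ∈ S) : h.dSub hx ≤ (commutator S).map S.subtype := by
  rintro _ ⟨a, rfl⟩
  exact ⟨⁅(⟨a, h.le a.2⟩ : S), ⟨x, hx⟩⁆, commutator_mem_commutator (mem_top _) (mem_top _),
    by simp [commutatorElement_def, cHom]⟩

theorem commutator_eq_dSub {x : Ω} (hx : x ∈ S) (hxA : x ∉ A) :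
    (commutator S).map S.subtype = h.dSub hx := by
  refine le_antisymm ?_ (h.dSub_le_commutator hx)
  have hfix : ∀ s ∈ S, ∀ d ∈ h.dSub hx, s * d * s⁻¹ ∈ h.dSub hx := by
    intro s hs d hd
    obtain ⟨n, b, hb, rfl⟩ := h.exists_eq_mul hx hxA hs
    obtain ⟨⟨a, ha⟩, rfl⟩ := hd
    have hxn : x ^ n ∈ S := zpow_mem hx n
    have hmem := h.conj_mem hxn ha
    refine ⟨⟨x ^ n * a * (x ^ n)⁻¹, hmem⟩, ?_⟩
    have e : x ^ n * a * (x ^ n)⁻¹ * x * (x ^ n * a * (x ^ n)⁻¹)⁻¹ * x⁻¹ =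
        x ^ n * (a * x * a⁻¹ * x⁻¹) * (x ^ n)⁻¹ := by group
    show x ^ n * a * (x ^ n)⁻¹ * x * (x ^ n * a * (x ^ n)⁻¹)⁻¹ * x⁻¹ =
      b * x ^ n * (a * x * a⁻¹ * x⁻¹) * (b * x ^ n)⁻¹
    have hd' : x ^ n * (a * x * a⁻¹ * x⁻¹) * (x ^ n)⁻¹ ∈ A :=
      h.conj_mem hxn (h.dSub_le hx ⟨⟨a, ha⟩, rfl⟩)
    rw [e, show b * x ^ n * (a * x * a⁻¹ * x⁻¹) * (b * x ^ n)⁻¹ =
      b * (x ^ n * (a * x * a⁻¹ * x⁻¹) * (x ^ n)⁻¹) * b⁻¹ by group, comm_of_mem h.comm hb hd',
      mul_inv_cancel_right]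
  set N := (h.dSub hx).subgroupOf S with hN
  haveI : N.Normal := ⟨fun d hd s => hfix s s.2 d hd⟩
  set q := QuotientGroup.mk' N
  have hgen : ∀ (a : A), Commute (q ⟨a, h.le a.2⟩) (q ⟨x, hx⟩) := by
    intro a
    rw [commute_iff_eq, ← mul_inv_eq_one, mul_inv_rev, ← map_mul, ← map_inv, ← map_inv, ← map_mul,
      ← map_mul]
    refine (QuotientGroup.eq_one_iff _).2 ?_
    rw [hN, mem_subgroupOf]
    exact ⟨a, by simp [cHom, mul_assoc]⟩
  have hab : ∀ u v : S, Commute (q u) (q v) := by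
    intro u v
    obtain ⟨i, a, ha, hu⟩ := h.exists_eq_mul hx hxA u.2
    obtain ⟨j, b, hb, hv⟩ := h.exists_eq_mul hx hxA v.2
    have eu : u = (⟨a, h.le ha⟩ : S) * (⟨x, hx⟩ : S) ^ i := Subtype.ext (by simpa using hu)
    have ev : v = (⟨b, h.le hb⟩ : S) * (⟨x, hx⟩ : S) ^ j := Subtype.ext (by simpa using hv)
    rw [eu, ev, map_mul, map_mul, map_zpow, map_zpow]
    have c1 : Commute (q ⟨a, h.le ha⟩) (q ⟨b, h.le hb⟩) :=
      (show Commute (⟨a, h.le ha⟩ : S) ⟨b, h.le hb⟩ from Subtype.ext (comm_of_mem h.comm ha hb)).map q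
    exact ((c1.mul_right ((hgen ⟨a, ha⟩).zpow_right j))).mul_left
      (((hgen ⟨b, hb⟩).symm.zpow_left i).mul_right (Commute.zpow_zpow_self _ i j))
  rw [map_le_iff_le_comap, _root_.commutator_def, Subgroup.commutator_le]
  intro u _ v _
  show ⁅u, v⁆ ∈ N
  rw [← QuotientGroup.eq_one_iff]
  show q ⁅u, v⁆ = 1
  rw [map_commutatorElement, commutatorElement_eq_one_iff_commute]
  exact hab u v

theorem card_dSub_mul {x : Ω} (hx : x ∈ S) (hxA : x ∉ A) :
    Nat.card (h.dSub hx) * Nat.card (zS S) = Nat.card A := by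
  have e := (h.cHom hx).ker.card_mul_index
  rw [index_ker, h.ker_cHom hx hxA,
    Nat.card_congr (subgroupOfEquivOfLe h.zS_le).toEquiv, Nat.mul_comm] at e
  exact e

theorem sq_le_card_dSub {x : Ω} (hx : x ∈ S) (hxA : x ∉ A) : p ^ 2 ≤ Nat.card (h.dSub hx) := by
  have := h.finite
  have hfin : ∀ B : Subgroup Ω, B ≤ S → Finite B := fun B hB =>
    Finite.of_injective _ (Subgroup.inclusion_injective hB)
  have := hfin _ h.le
  have := hfin _ ((h.dSub_le hx).trans h.le)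
  obtain ⟨k, hk⟩ := (h.isPGroup.to_le ((h.dSub_le hx).trans h.le)).exists_card_eq
  rw [hk]
  refine Nat.pow_le_pow_right hp.out.pos ?_
  by_contra hk2
  push Not at hk2
  set B := zS S ⊔ zpowers x with hB
  have hBS : B ≤ S := sup_le inf_le_left (zpowers_le.2 hx)
  have hBc : IsMulCommutative B := isMulCommutative_sup_zpowers (B := zS S)
    ⟨⟨fun (u v : zS S) => Subtype.ext (mem_centralizer_iff.1 v.2.2 u u.2.1)⟩⟩
    (fun z hz => (mem_centralizer_iff.1 hz.2 x hx).symm)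
  have := hfin _ hBS
  have hxB : x ∈ B := mem_sup_right (mem_zpowers x)
  have hxz : x ∉ zS S := fun e => hxA (h.zS_le e)
  have hzB : p * Nat.card (zS S) ≤ Nat.card B := by
    rw [← relIndex_bot_left, ← relIndex_bot_left,
      ← relIndex_mul_relIndex ⊥ (zS S) B bot_le le_sup_left, Nat.mul_comm]
    refine Nat.mul_le_mul_left _ ?_
    obtain ⟨j, hj⟩ := (h.isPGroup.to_le hBS).index ((zS S).subgroupOf B)
    have hj' : (zS S).relIndex B = p ^ j := hj
    rw [hj']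
    refine Nat.le_self_pow ?_ p
    intro h0
    rw [h0, pow_zero, relIndex_eq_one] at hj'
    exact hxz (hj' hxB)
  have hAc := h.card_dSub_mul hx hxA
  rw [hk] at hAc
  have hle : Nat.card A ≤ Nat.card B := by
    rw [← hAc]
    calc p ^ k * Nat.card (zS S) ≤ p ^ 1 * Nat.card (zS S) :=
          Nat.mul_le_mul_right _ (Nat.pow_le_pow_right hp.out.pos (by omega))
      _ ≤ Nat.card B := by rwa [pow_one]
  have hBne : (B.subgroupOf S).index ≠ 1 := by
    rw [Ne, index_eq_one, subgroupOf_eq_top]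
    exact fun e => h.not_comm ⟨⟨fun u v => Subtype.ext (comm_of_mem hBc (e u.2) (e v.2))⟩⟩
  have hidx : (B.subgroupOf S).index = p := by
    obtain ⟨j, hj⟩ := h.isPGroup.index (B.subgroupOf S)
    have e1 := (A.subgroupOf S).card_mul_index
    have e2 := (B.subgroupOf S).card_mul_index
    rw [h.index, Nat.card_congr (subgroupOfEquivOfLe h.le).toEquiv] at e1
    rw [hj, Nat.card_congr (subgroupOfEquivOfLe hBS).toEquiv] at e2
    rcases j with _ | _ | j
    · simp [hj] at hBne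
    · simpa using hj
    · exfalso
      have : Nat.card B * p ^ 2 ≤ Nat.card S := by
        rw [← e2]
        exact Nat.mul_le_mul_left _ (Nat.pow_le_pow_right hp.out.pos (by omega))
      rw [← e1] at this
      have h3 : 0 < Nat.card A := Nat.card_pos
      nlinarith [hp.out.two_le, Nat.mul_le_mul_right (p ^ 2) hle, mul_pos h3 hp.out.pos]
  exact hxA (h.unique B hBS hBc hidx ▸ hxB)

/-- The iterated commutation images. -/
def dIter {x : Ω} (hx : x ∈ S) : ℕ → Subgroup Ω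
  | 0 => A
  | n + 1 => ((dIter hx n).subgroupOf A).map (h.cHom hx)

theorem dIter_le {x : Ω} (hx : x ∈ S) : ∀ n, h.dIter hx n ≤ A
  | 0 => le_rfl
  | n + 1 => (map_le_range _ _).trans (h.dSub_le hx)

theorem dIter_succ_le {x : Ω} (hx : x ∈ S) (n : ℕ) : h.dIter hx (n + 1) ≤ h.dSub hx :=
  map_le_range _ _

theorem dIter_le_lowerCentralSeries {x : Ω} (hx : x ∈ S) :
    ∀ n, h.dIter hx n ≤ Subgroup.lowerCentralSeries S n
  | 0 => h.le
  | n + 1 => by
    rintro _ ⟨a, ha, rfl⟩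
    rw [Subgroup.lowerCentralSeries_succ]
    exact commutator_mem_commutator (dIter_le_lowerCentralSeries hx n ha) hx

theorem card_dIter_succ {x : Ω} (hx : x ∈ S) (hxA : x ∉ A) (n : ℕ) :
    Nat.card (h.dIter hx (n + 1)) * Nat.card (h.dIter hx n ⊓ zS S : Subgroup Ω) =
      Nat.card (h.dIter hx n) := by
  set f := (h.cHom hx).comp (inclusion (h.dIter_le hx n))
  have hr : f.range = h.dIter hx (n + 1) := by
    ext y
    constructor
    · rintro ⟨a, rfl⟩
      exact ⟨inclusion (h.dIter_le hx n) a, a.2, rfl⟩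
    · rintro ⟨a, ha, rfl⟩
      exact ⟨⟨a, ha⟩, rfl⟩
  have hk : f.ker = (h.dIter hx n ⊓ zS S).subgroupOf (h.dIter hx n) := by
    ext a
    rw [MonoidHom.mem_ker, MonoidHom.comp_apply, ← MonoidHom.mem_ker, h.ker_cHom hx hxA]
    exact ⟨fun e => ⟨a.2, e⟩, fun e => e.2⟩
  have e := f.ker.card_mul_index
  rw [index_ker, hr, hk, Nat.card_congr (subgroupOfEquivOfLe inf_le_left).toEquiv, Nat.mul_comm] at e
  exact e

theorem card_dSub_le_dIter {x : Ω} (hx : x ∈ S) (hxA : x ∉ A)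
    (hDZ : Nat.card (h.dSub hx ⊓ zS S : Subgroup Ω) = p) :
    ∀ k, Nat.card (h.dSub hx) ≤ Nat.card (h.dIter hx (k + 1)) * p ^ k
  | 0 => by
    have : h.dIter hx 1 = h.dSub hx := by
      show ((A.subgroupOf A).map (h.cHom hx)) = _
      rw [subgroupOf_self, ← MonoidHom.range_eq_map]
      rfl
    rw [this, pow_zero, mul_one]
  | k + 1 => by
    have := h.finite
    have hfD : Finite (h.dSub hx) :=
      Finite.of_injective _ (Subgroup.inclusion_injective ((h.dSub_le hx).trans h.le))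
    have hfI : Finite (h.dSub hx ⊓ zS S : Subgroup Ω) :=
      Finite.of_injective _ (Subgroup.inclusion_injective inf_le_left)
    refine (card_dSub_le_dIter hx hxA hDZ k).trans ?_
    rw [← h.card_dIter_succ hx hxA (k + 1), pow_succ', mul_assoc]
    refine Nat.mul_le_mul_left _ (Nat.mul_le_mul_right _ ?_)
    exact le_of_le_of_eq (card_le_of_le (inf_le_inf_right _ (h.dIter_succ_le hx k))) hDZ

end Setting

end Cfsg.Agent.Lib.AbelianMaximal
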