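import Mathlib
import Cfsg.Agent.Lib.AbelianMaximal.Group
import Cfsg.Agent.Lib.Fusion.Alperin
/-!
Essential subgroups of a saturated fusion system over a `p`-group with a unique abelian subgroup of
index `p`.
-/

set_option autoImplicit false

namespace Cfsg.Agent.Lib.AbelianMaximal

open Subgroup Cfsg
open Cfsg.FusionSystem hiding inv_mem conj_mem
open Cfsg.Agent.Lib Cfsg.Agent.Lib.Fusion

/-- Automorphisms fixing `U` pointwise and acting trivially modulo `U`. -/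
def stab {G : Type*} [Group G] (U : Subgroup G) : Subgroup (MulAut G) where
  carrier := {β | (∀ u ∈ U, β u = u) ∧ ∀ v, β v * v⁻¹ ∈ U}
  one_mem' := ⟨fun _ _ => rfl, fun v => by simp⟩
  mul_mem' := by
    intro a b ha hb
    refine ⟨fun u hu => by rw [MulAut.mul_apply, hb.1 u hu, ha.1 u hu], fun v => ?_⟩
    have := mul_mem (ha.2 (b v)) (hb.2 v)
    rw [MulAut.mul_apply]
    simpa [mul_assoc] using this
  inv_mem' := by
    intro a ha
    refine ⟨fun u hu => a.injective (by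
      rw [show a (a⁻¹ u) = u from a.apply_symm_apply u, ha.1 u hu]), fun v => ?_⟩
    have := inv_mem (ha.2 (a⁻¹ v))
    rw [show a (a⁻¹ v) = v from a.apply_symm_apply v] at this
    simpa using this

theorem isPGroup_stab {p : ℕ} {G : Type*} [Group G] (hG : IsPGroup p G) (U : Subgroup G) :
    ∀ β ∈ stab U, ∀ v, ∃ k : ℕ, (β ^ p ^ k) v = v := by
  intro β hβ v
  obtain ⟨k, hk⟩ := hG (β v * v⁻¹)
  refine ⟨k, ?_⟩
  have hn : ∀ n : ℕ, (β ^ n) v = (β v * v⁻¹) ^ n * v := by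
    intro n
    induction n with
    | zero => simp
    | succ n ih =>
      rw [pow_succ', MulAut.mul_apply, ih, map_mul, map_pow, hβ.1 _ (hβ.2 v),
        pow_succ (β v * v⁻¹), mul_assoc (_ ^ n), inv_mul_cancel_right]
  rw [hn, hk, one_mul]

theorem isPGroup_stab' {p : ℕ} [Fact p.Prime] {G : Type*} [Group G] [Finite G] (hG : IsPGroup p G)
    (U : Subgroup G) : IsPGroup p (stab U) := by
  intro ⟨β, hβ⟩
  obtain ⟨m, hm⟩ := hG.exists_card_eq
  refine ⟨m, Subtype.ext (MulEquiv.ext fun v => ?_)⟩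
  have hn : ∀ n : ℕ, (β ^ n) v = (β v * v⁻¹) ^ n * v := by
    intro n
    induction n with
    | zero => simp
    | succ n ih =>
      rw [pow_succ', MulAut.mul_apply, ih, map_mul, map_pow, hβ.1 _ (hβ.2 v),
        pow_succ (β v * v⁻¹), mul_assoc (_ ^ n), inv_mul_cancel_right]
  rw [SubgroupClass.coe_pow, hn, ← hm, pow_card_eq_one', one_mul]
  rfl

theorem stab_conj {G : Type*} [Group G] {U : Subgroup G} {γ : MulAut G}
    (hγ : ∀ u, γ u ∈ U ↔ u ∈ U) {β : MulAut G} (hβ : β ∈ stab U) : γ * β * γ⁻¹ ∈ stab U := by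
  refine ⟨fun u hu => ?_, fun v => ?_⟩
  · have hu' : γ⁻¹ u ∈ U := (hγ _).1 (by rwa [show γ (γ⁻¹ u) = u from γ.apply_symm_apply u])
    rw [MulAut.mul_apply, MulAut.mul_apply, hβ.1 _ hu']
    exact γ.apply_symm_apply u
  · have := (hγ _).2 (hβ.2 (γ⁻¹ v))
    rw [map_mul, map_inv, show γ (γ⁻¹ v) = v from γ.apply_symm_apply v] at this
    exact this

variable {Ω : Type*} [Group Ω] {S : Subgroup Ω} {p : ℕ} [hp : Fact p.Prime] {F : FusionSystem S}

/-- Normal `p`-subgroups of the automiser of an essential subgroup are inner. -/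
theorem le_inn_of_isEssential [Finite S] (hS : IsPGroup p S) {P : Subgroup Ω} (hP : F.IsEssential p P)
    {K : Subgroup (MulAut P)} (hKle : K ≤ F.autGroup P)
    (hconj : ∀ β ∈ F.autGroup P, ∀ k ∈ K, β * k * β⁻¹ ∈ K) (hK : IsPGroup p K) : K ≤ Inn P := by
  obtain ⟨-, hr⟩ := isRadical_of_isEssential hS hP
  rw [← hr]
  intro k hk
  have hn : (K.subgroupOf (F.autGroup P)).Normal := ⟨fun a ha g => hconj g g.2 a ha⟩
  have hKp : IsPGroup p (K.subgroupOf (F.autGroup P)) :=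
    hK.of_equiv (subgroupOfEquivOfLe hKle).symm
  exact ⟨⟨k, hKle hk⟩, PSolvable.le_pCore (hN := hn) hKp hk, rfl⟩

theorem isSylowIn_autInducedBy [Finite S] (hS : IsPGroup p S) (hF : F.IsSaturated p)
    {P : Subgroup Ω} (hP : F.IsEssential p P) :
    IsSylowIn p (autInducedBy S P) (F.autGroup P) :=
  (isFullyAutomized_iff.1 (isFullyAutomized_of_isFullyNormalized hS hF hP.2.1)).2

theorem ne_of_isEssential [Finite S] (hS : IsPGroup p S) (hF : F.IsSaturated p)
    {P : Subgroup Ω} (hP : F.IsEssential p P) : P ≠ S := by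
  intro hPS
  have hsyl := isSylowIn_autInducedBy hS hF hP
  obtain ⟨-, -, hN, E, hE⟩ := hP
  have heq : autInducedBy S P = Inn P := by rw [inn_eq_autInducedBy, hPS]
  have hd : p ∣ ((Inn P).subgroupOf (F.autGroup P)).index := hE.1
  rw [heq] at hsyl
  exact hsyl.2.2 hd

variable {A : Subgroup Ω}

/-- Data common to all essential subgroups different from `A`. -/
theorem exists_data [Finite S] (h : Setting p S A) (hF : F.IsSaturated p) {P : Subgroup Ω}
    (hP : F.IsEssential p P) (hPA : P ≠ A) :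
    zS S ≤ P ∧ ∃ x ∈ P, x ∉ A ∧ (∀ v ∈ P, ∃ (n : ℤ) (b : Ω), b ∈ A ∧ b ∈ P ∧ v = b * x ^ n) ∧
      (A.subgroupOf P).index = p ∧
      ∃ a ∈ A, a ∈ normalizer (P : Set Ω) ∧ a ∉ P := by
  have hPS : P ≤ S := hP.1.1
  have hC := centralizerIn_le_of_isCentric hP.1
  have hzP : zS S ≤ P := fun z hz => hC ⟨hz.1, mem_centralizer_iff.2 fun u hu =>
    mem_centralizer_iff.1 hz.2 u (hPS hu)⟩
  refine ⟨hzP, ?_⟩
  have hnA : ¬ P ≤ A := by
    intro hle
    refine hPA (le_antisymm hle fun a ha => hC ⟨h.le ha, mem_centralizer_iff.2 fun u hu => ?_⟩)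
    exact comm_of_mem h.comm (hle hu) ha
  obtain ⟨x, hxP, hxA⟩ := SetLike.not_le_iff_exists.1 hnA
  have hdec : ∀ v ∈ P, ∃ (n : ℤ) (b : Ω), b ∈ A ∧ b ∈ P ∧ v = b * x ^ n := by
    intro v hv
    obtain ⟨n, b, hb, hvb⟩ := h.exists_eq_mul (hPS hxP) hxA (hPS hv)
    refine ⟨n, b, hb, ?_, hvb⟩
    have : b = v * (x ^ n)⁻¹ := by rw [hvb, mul_inv_cancel_right]
    rw [this]
    exact mul_mem hv (inv_mem (zpow_mem hxP n))
  have hidx : (A.subgroupOf P).index = p := by
    haveI := h.normal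
    have hd : A.relIndex P ∣ p := by
      have h1 := relIndex_dvd_index_of_normal (H := A.subgroupOf S) (P.subgroupOf S)
      rw [h.index] at h1
      have h2 : (A.subgroupOf S).relIndex (P.subgroupOf S) = A.relIndex P := by
        conv_rhs => rw [← inf_relIndex_right]
        rw [← relIndex_map_map_of_injective (A.subgroupOf S) (P.subgroupOf S) S.subtype_injective,
          map_subgroupOf_eq_of_le h.le, map_subgroupOf_eq_of_le hPS, inf_relIndex_right]
      rwa [h2] at h1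
    rcases (Nat.dvd_prime hp.out).1 hd with h3 | h3
    · exact absurd (relIndex_eq_one.1 h3) hnA
    · exact h3
  refine ⟨x, hxP, hxA, hdec, hidx, ?_⟩
  have hne : P < S := lt_of_le_of_ne hPS (ne_of_isEssential h.isPGroup hF hP)
  obtain ⟨g, hg, hgP⟩ := SetLike.exists_of_lt (lt_normalizerIn h.isPGroup hne)
  obtain ⟨n, a, ha, rfl⟩ := h.exists_eq_mul (hPS hxP) hxA hg.1
  have hxn : x ^ n ∈ P := zpow_mem hxP n
  refine ⟨a, ha, ?_, fun e => hgP (mul_mem e hxn)⟩
  have h2 : a * x ^ n ∈ normalizer (P : Set Ω) := hg.2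
  have := mul_mem h2 (inv_mem (le_normalizer hxn : x ^ n ∈ normalizer (P : Set Ω)))
  rwa [mul_inv_cancel_right] at this

theorem zpow_conj_mem {a x : Ω} {U : Subgroup Ω} (hc : a * x * a⁻¹ * x⁻¹ ∈ U)
    (hU : ∀ u ∈ U, u * x = x * u) (n : ℤ) : a * x ^ n * a⁻¹ * (x ^ n)⁻¹ ∈ U := by
  have e : a * x * a⁻¹ = (a * x * a⁻¹ * x⁻¹) * x := by group
  rw [← conj_zpow, e, (show Commute (a * x * a⁻¹ * x⁻¹) x from hU _ hc).mul_zpow, mul_inv_cancel_right]
  exact zpow_mem hc n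

/-- The nonabelian case. -/
theorem nonabelian_case [Finite S] (h : Setting p S A) (hF : F.IsSaturated p) {P : Subgroup Ω}
    (hP : F.IsEssential p P) (hPA : P ≠ A) (hPc : ¬ IsMulCommutative P) :
    ∃ x ∈ P, ∃ hx : x ∈ S, x ∉ A ∧ (∀ v ∈ P, ∃ (n : ℤ) (b : Ω), b ∈ A ∧ b ∈ P ∧ v = b * x ^ n) ∧
      (∀ a ∈ A, a * x * a⁻¹ * x⁻¹ ∈ zS S ↔ a ∈ P) ∧
      ((zS S).subgroupOf (P ⊓ A)).index = p := by
  obtain ⟨hzP, x₀, hx₀P, hx₀A, hdec₀, hUi, a₀, ha₀, ha₀N, ha₀P⟩ := exists_data h hF hP hPA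
  have hPS : P ≤ S := hP.1.1
  have := finite_of_le hPS
  have hPp : IsPGroup p P := h.isPGroup.to_le hPS
  set U := A.subgroupOf P with hU
  have hUn : U.Normal := ⟨fun u hu v => h.conj_mem (hPS v.2) hu⟩
  -- some automorphism moves `U`
  obtain ⟨α, hα, hαU⟩ : ∃ α ∈ F.autGroup P, U.map α.toMonoidHom ≠ U := by
    by_contra hcon
    push Not at hcon
    have hle : stab U ⊓ F.autGroup P ≤ Inn P := by
      refine le_inn_of_isEssential h.isPGroup hP inf_le_right (fun β hβ k hk => ⟨stab_conj ?_ hk.1,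
        (F.autGroup P).mul_mem ((F.autGroup P).mul_mem hβ hk.2) ((F.autGroup P).inv_mem hβ)⟩) ((isPGroup_stab' hPp U).to_le inf_le_left)
      intro u
      conv_lhs => rw [← hcon β hβ]
      exact mem_map_iff_mem β.injective
    refine ha₀P (mem_of_conjAut_mem_inn hP.1 (h.le ha₀) (hle ⟨⟨?_, ?_⟩,
      autInducedBy_le_autGroup hPS (mem_autInducedBy.2 ⟨a₀, h.le ha₀, fun u => rfl⟩)⟩) (hgN := ha₀N))
    · intro u hu
      refine Subtype.ext ?_
      rw [conjAut_apply, comm_of_mem h.comm ha₀ (show (u : Ω) ∈ A from hu), mul_inv_cancel_right]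
    · intro v
      show a₀ * (v : Ω) * a₀⁻¹ * (v : Ω)⁻¹ ∈ A
      rw [show a₀ * (v : Ω) * a₀⁻¹ * (v : Ω)⁻¹ = a₀ * ((v : Ω) * a₀⁻¹ * (v : Ω)⁻¹) by group]
      exact mul_mem ha₀ (h.conj_mem (hPS v.2) (inv_mem ha₀))
  set U' := U.map α.toMonoidHom with hU'
  have hU'i : U'.index = p := (index_map_equiv U α).trans hUi
  have hU'n : U'.Normal := hUn.map _ α.surjective
  have hU'c : ∀ u ∈ U', ∀ v ∈ U', u * v = v * u := by
    rintro _ ⟨u, hu, rfl⟩ _ ⟨v, hv, rfl⟩
    rw [← map_mul, ← map_mul, show u * v = v * u from Subtype.ext (comm_of_mem h.comm hu hv)]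
  obtain ⟨⟨x, hxP⟩, hxU', hxU⟩ : ∃ v ∈ U', v ∉ U := by
    by_contra hcon
    push Not at hcon
    exact hαU (eq_of_le_of_card_ge hcon
      (card_map_of_injective (K := U) (f := α.toMonoidHom) α.injective).ge)
  have hx : x ∈ S := hPS hxP
  have hxA : x ∉ A := hxU
  have hdec : ∀ v ∈ P, ∃ (n : ℤ) (b : Ω), b ∈ A ∧ b ∈ P ∧ v = b * x ^ n := by
    intro v hv
    obtain ⟨n, b, hb, hvb⟩ := h.exists_eq_mul hx hxA (hPS hv)
    refine ⟨n, b, hb, ?_, hvb⟩
    have : b = v * (x ^ n)⁻¹ := by rw [hvb, mul_inv_cancel_right]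
    rw [this]
    exact mul_mem hv (inv_mem (zpow_mem hxP n))
  set Zc := (zS S).subgroupOf P with hZc
  have hZcen : ∀ u ∈ Zc, ∀ v : P, v * u = u * v := fun u hu v =>
    Subtype.ext (mem_centralizer_iff.1 hu.2 v (hPS v.2))
  have hinfle : U ⊓ U' ≤ Zc := fun u hu => h.mem_zS_of_commute hx hxA hu.1
    (congrArg Subtype.val (hU'c u hu.2 ⟨x, hxP⟩ hxU'))
  have hZcU' : Zc ≤ U' := by
    intro z hz
    by_contra hzU'
    apply hPc
    -- `U'` and `z` generate `P`
    have hcard : Nat.card (P ⧸ U') = p := by rw [← Subgroup.index_eq_card, hU'i]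
    have key : ∀ v : P, ∃ (n : ℤ) (u : P), u ∈ U' ∧ v = u * z ^ n := by
      intro v
      obtain ⟨n, hn⟩ : QuotientGroup.mk v ∈ zpowers (QuotientGroup.mk z : P ⧸ U') :=
        mem_zpowers_of_prime_card hcard (fun e => hzU' ((QuotientGroup.eq_one_iff z).1 e))
      refine ⟨n, v * (z ^ n)⁻¹, ?_, by group⟩
      rw [← QuotientGroup.eq_one_iff, QuotientGroup.mk_mul, QuotientGroup.mk_inv,
        QuotientGroup.mk_zpow]
      exact mul_inv_eq_one.2 hn.symm
    refine ⟨⟨fun v w => ?_⟩⟩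
    obtain ⟨i, u, hu, rfl⟩ := key v
    obtain ⟨j, u', hu', rfl⟩ := key w
    have cz : ∀ v : P, Commute v z := fun v => hZcen z hz v
    exact ((show Commute u u' from hU'c u hu u' hu').mul_right ((cz u).zpow_right j)).mul_left
      (((cz u').symm.zpow_left i).mul_right (Commute.zpow_zpow_self z i j))
  have hinf : U ⊓ U' = Zc := le_antisymm hinfle (le_inf (fun u hu => h.zS_le hu) hZcU')
  -- `Zc` is the centre of `P`
  have hcenter : center P = Zc := by
    refine le_antisymm (fun u hu => ?_) fun u hu => mem_center_iff.2 (hZcen u hu)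
    have hc := mem_center_iff.1 hu
    by_cases huA : (u : Ω) ∈ A
    · exact h.mem_zS_of_commute hx hxA huA (congrArg Subtype.val (hc ⟨x, hxP⟩)).symm
    · exfalso
      obtain ⟨n, b, hb, hbP, hux⟩ := hdec u u.2
      apply hPc
      have hxc : ∀ c ∈ A, c ∈ P → c * (u : Ω) = u * c := fun c _ hcP =>
        congrArg Subtype.val (hc ⟨c, hcP⟩)
      refine ⟨⟨fun v w => Subtype.ext ?_⟩⟩
      obtain ⟨i, c, hcA, hcv⟩ := h.exists_eq_mul (hPS u.2) huA (hPS v.2)
      obtain ⟨j, d, hdA, hdw⟩ := h.exists_eq_mul (hPS u.2) huA (hPS w.2)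
      have hcP : c ∈ P := by
        rw [show c = (v : Ω) * ((u : Ω) ^ i)⁻¹ by rw [hcv, mul_inv_cancel_right]]
        exact mul_mem v.2 (inv_mem (zpow_mem u.2 i))
      have hdP : d ∈ P := by
        rw [show d = (w : Ω) * ((u : Ω) ^ j)⁻¹ by rw [hdw, mul_inv_cancel_right]]
        exact mul_mem w.2 (inv_mem (zpow_mem u.2 j))
      show (v : Ω) * w = w * v
      rw [hcv, hdw]
      have ec : Commute c (u : Ω) := hxc c hcA hcP
      have ed : Commute d (u : Ω) := hxc d hdA hdP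
      exact ((show Commute c d from comm_of_mem h.comm hcA hdA).mul_right (ec.zpow_right j)).mul_left
        ((ed.symm.zpow_left i).mul_right (Commute.zpow_zpow_self (u : Ω) i j))
  have hfwd : ∀ a ∈ A, a ∈ P → a * x * a⁻¹ * x⁻¹ ∈ zS S := by
    intro a ha haP
    have h1 : (⟨a, haP⟩ : P) * ⟨x, hxP⟩ * ⟨a, haP⟩⁻¹ * ⟨x, hxP⟩⁻¹ ∈ U ⊓ U' := by
      refine ⟨?_, U'.mul_mem (hU'n.conj_mem _ hxU' _) (U'.inv_mem hxU')⟩
      show a * x * a⁻¹ * x⁻¹ ∈ A
      rw [show a * x * a⁻¹ * x⁻¹ = a * (x * a⁻¹ * x⁻¹) by group]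
      exact mul_mem ha (h.conj_mem hx (inv_mem ha))
    exact hinfle h1
  have hbwd : ∀ a ∈ A, a * x * a⁻¹ * x⁻¹ ∈ zS S → a ∈ P := by
    intro a ha hc
    have haN : a ∈ normalizer (P : Set Ω) := by
      have key : ∀ b ∈ A, b * x * b⁻¹ * x⁻¹ ∈ zS S → ∀ v ∈ P, b * v * b⁻¹ ∈ P := by
        intro b hb hcb v hv
        obtain ⟨n, d, hd, hdP, rfl⟩ := hdec v hv
        have h1 := zpow_conj_mem hcb (fun u hu => (mem_centralizer_iff.1 hu.2 x hx).symm) n
        have : b * (d * x ^ n) * b⁻¹ = d * (b * x ^ n * b⁻¹ * (x ^ n)⁻¹) * x ^ n := by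
          rw [show b * (d * x ^ n) * b⁻¹ = (b * d * b⁻¹) * (b * x ^ n * b⁻¹) by group,
            comm_of_mem h.comm hb hd, mul_inv_cancel_right]
          group
        rw [this]
        exact mul_mem (mul_mem hdP (hzP h1)) (zpow_mem hxP n)
      exact mem_normalizer_fintype (S := (P : Set Ω)) fun v hv => key a ha hc v hv
    have hle : stab Zc ⊓ F.autGroup P ≤ Inn P := by
      refine le_inn_of_isEssential h.isPGroup hP inf_le_right (fun β hβ k hk => ⟨stab_conj ?_ hk.1,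
        (F.autGroup P).mul_mem ((F.autGroup P).mul_mem hβ hk.2) ((F.autGroup P).inv_mem hβ)⟩) ((isPGroup_stab' hPp Zc).to_le inf_le_left)
      intro u
      rw [← hcenter, mem_center_iff, mem_center_iff]
      exact ⟨fun e v => β.injective (by rw [map_mul, map_mul, e]), fun e v => by
        obtain ⟨v, rfl⟩ := β.surjective v
        rw [← map_mul, ← map_mul, e]⟩
    refine mem_of_conjAut_mem_inn hP.1 (h.le ha) (hgN := haN) (hle ⟨⟨?_, ?_⟩,
      autInducedBy_le_autGroup hPS (mem_autInducedBy.2 ⟨a, h.le ha, fun u => rfl⟩)⟩)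
    · intro u hu
      refine Subtype.ext ?_
      rw [conjAut_apply, comm_of_mem h.comm ha (show (u : Ω) ∈ A from h.zS_le hu), mul_inv_cancel_right]
    · intro v
      obtain ⟨n, d, hd, hdP, hvd⟩ := hdec v v.2
      show a * (v : Ω) * a⁻¹ * (v : Ω)⁻¹ ∈ zS S
      have h1 := zpow_conj_mem hc (fun u hu => (mem_centralizer_iff.1 hu.2 x hx).symm) n
      have : a * (v : Ω) * a⁻¹ * (v : Ω)⁻¹ = a * x ^ n * a⁻¹ * (x ^ n)⁻¹ := by
        rw [hvd, show a * (d * x ^ n) * a⁻¹ * (d * x ^ n)⁻¹ =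
          (a * d * a⁻¹) * (a * x ^ n * a⁻¹ * (x ^ n)⁻¹) * d⁻¹ by group,
          comm_of_mem h.comm ha hd, mul_inv_cancel_right,
          comm_of_mem h.comm hd (h.zS_le h1), mul_inv_cancel_right]
      rwa [this]
  refine ⟨x, hxP, hx, hxA, hdec, fun a ha => ⟨hbwd a ha, hfwd a ha⟩, ?_⟩
  -- `Z` has index `p` in `P ⊓ A`
  have hd : U'.relIndex U ∣ p := by
    have := relIndex_dvd_index_of_normal (H := U') U
    rwa [hU'i] at this
  have e1 : ((zS S).subgroupOf (P ⊓ A)).index = U'.relIndex U := by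
    conv_rhs => rw [← inf_relIndex_right, inf_comm, hinf, hZc, hU,
      ← relIndex_map_map_of_injective _ _ P.subtype_injective, map_subgroupOf_eq_of_le hzP,
      subgroupOf_map_subtype, inf_comm A P]
    rfl
  rw [e1]
  rcases (Nat.dvd_prime hp.out).1 hd with h3 | h3
  · exact absurd (eq_of_le_of_card_ge (relIndex_eq_one.1 h3)
      (card_map_of_injective (K := U) (f := α.toMonoidHom) α.injective).le).symm hαU
  · exact h3

end Cfsg.Agent.Lib.AbelianMaximal
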