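import Mathlib
import Cfsg.Agent.Lib.AbelianMaximal.Essential
/-!
Abelian essential subgroups other than `A`.
-/

set_option autoImplicit false

namespace Cfsg.Agent.Lib.AbelianMaximal

open Subgroup Cfsg
open Cfsg.FusionSystem hiding inv_mem conj_mem
open Cfsg.Agent.Lib Cfsg.Agent.Lib.Fusion

variable {Ω : Type*} [Group Ω] {S : Subgroup Ω} {p : ℕ} [hp : Fact p.Prime] {F : FusionSystem S}
  {A : Subgroup Ω} [Finite S]

/-- An abelian essential subgroup different from `A`. -/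
structure AbEss (h : Setting p S A) (hF : F.IsSaturated p) (P : Subgroup Ω) : Prop where
  ess : F.IsEssential p P
  ne : P ≠ A
  comm : IsMulCommutative P

variable {h : Setting p S A} {hF : F.IsSaturated p} {P : Subgroup Ω} (hP : AbEss h hF P)

/-- The centre of `S` inside `P`. -/
abbrev zIn (S P : Subgroup Ω) : Subgroup P := (zS S).subgroupOf P

namespace AbEss

include hP

theorem le : P ≤ S := hP.ess.1.1

theorem zS_le : zS S ≤ P := (exists_data h hF hP.ess hP.ne).1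

theorem mem_zS {b : Ω} (hbA : b ∈ A) (hbP : b ∈ P) : b ∈ zS S := by
  obtain ⟨-, x, hxP, hxA, -⟩ := exists_data h hF hP.ess hP.ne
  exact h.mem_zS_of_commute (hP.le hxP) hxA hbA (comm_of_mem hP.comm hbP hxP)

theorem subgroupOf_eq : A.subgroupOf P = zIn S P :=
  le_antisymm (fun (u : P) hu => hP.mem_zS hu u.2) fun (u : P) hu => h.zS_le hu

theorem index_zIn : (zIn S P).index = p := by
  obtain ⟨-, x, -, -, -, hi, -⟩ := exists_data h hF hP.ess hP.ne
  rwa [hP.subgroupOf_eq] at hi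

theorem not_mem_A {y : Ω} (hyP : y ∈ P) (hy : y ∉ zS S) : y ∉ A := fun e => hy (hP.mem_zS e hyP)

theorem eq_sup {y : Ω} (hyP : y ∈ P) (hy : y ∉ zS S) : P = zS S ⊔ zpowers y := by
  refine le_antisymm (fun v hv => ?_) (sup_le hP.zS_le (zpowers_le.2 hyP))
  obtain ⟨n, b, hb, rfl⟩ := h.exists_eq_mul (hP.le hyP) (hP.not_mem_A hyP hy) (hP.le hv)
  have hbP : b ∈ P := by
    have := mul_mem hv (inv_mem (zpow_mem hyP n))
    rwa [mul_inv_cancel_right] at this
  exact mul_mem (mem_sup_left (hP.mem_zS hb hbP)) (mem_sup_right (zpow_mem (mem_zpowers y) n))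

theorem mem_stab {a : Ω} (ha : a ∈ A) (hN : a ∈ normalizer (P : Set Ω)) :
    conjAut P a hN ∈ stab (zIn S P) := by
  refine ⟨fun u hu => Subtype.ext ?_, fun v => ?_⟩
  · rw [conjAut_apply, comm_of_mem h.comm ha (show (u : Ω) ∈ A from h.zS_le hu), mul_inv_cancel_right]
  · rw [← hP.subgroupOf_eq]
    show a * (v : Ω) * a⁻¹ * (v : Ω)⁻¹ ∈ A
    rw [show a * (v : Ω) * a⁻¹ * (v : Ω)⁻¹ = a * ((v : Ω) * a⁻¹ * (v : Ω)⁻¹) by group]
    exact mul_mem ha (h.conj_mem (hP.le v.2) (inv_mem ha))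

theorem mem_normalizer {a y : Ω} (hyP : y ∈ P) (hy : y ∉ zS S) (ha : a ∈ A)
    (hc : a * y * a⁻¹ * y⁻¹ ∈ zS S) : a ∈ normalizer (P : Set Ω) := by
  have := finite_of_le hP.le
  refine mem_normalizer_fintype (S := (P : Set Ω)) fun v hv => ?_
  obtain ⟨n, d, hd, rfl⟩ := h.exists_eq_mul (hP.le hyP) (hP.not_mem_A hyP hy) (hP.le hv)
  have hdP : d ∈ P := by
    have := mul_mem hv (inv_mem (zpow_mem hyP n))
    rwa [mul_inv_cancel_right] at this
  have h1 := zpow_conj_mem hc (fun u hu => (mem_centralizer_iff.1 hu.2 y (hP.le hyP)).symm) n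
  have : a * (d * y ^ n) * a⁻¹ = d * (a * y ^ n * a⁻¹ * (y ^ n)⁻¹) * y ^ n := by
    rw [show a * (d * y ^ n) * a⁻¹ = (a * d * a⁻¹) * (a * y ^ n * a⁻¹) by group,
      comm_of_mem h.comm ha hd, mul_inv_cancel_right]
    group
  rw [this]
  exact mul_mem (mul_mem hdP (hP.zS_le h1)) (zpow_mem hyP n)

theorem autInducedBy_le_stab : autInducedBy S P ≤ stab (zIn S P) := by
  obtain ⟨-, x, hxP, hxA, -⟩ := exists_data h hF hP.ess hP.ne
  intro β hβ
  obtain ⟨g, hg, hgx⟩ := mem_autInducedBy.1 hβ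
  have hgN := mem_normalizer_of_aut hgx
  obtain ⟨n, a, ha, rfl⟩ := h.exists_eq_mul (hP.le hxP) hxA hg
  have hxn : x ^ n ∈ P := zpow_mem hxP n
  have haN : a ∈ normalizer (P : Set Ω) := by
    have := mul_mem hgN (inv_mem (le_normalizer hxn : x ^ n ∈ normalizer (P : Set Ω)))
    rwa [mul_inv_cancel_right] at this
  have hβa : β = conjAut P a haN := by
    ext v
    rw [hgx, conjAut_apply, show a * x ^ n * (v : Ω) * (a * x ^ n)⁻¹ =
      a * (x ^ n * v * (x ^ n)⁻¹) * a⁻¹ by group, comm_of_mem hP.comm hxn v.2, mul_inv_cancel_right]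
  exact hβa ▸ hP.mem_stab ha haN

theorem inn_eq_one {β : MulAut P} (hβ : β ∈ Inn P) : β = 1 := by
  obtain ⟨y, rfl⟩ := hβ
  ext v
  show (y : Ω) * v * (y : Ω)⁻¹ = v
  rw [comm_of_mem hP.comm y.2 v.2, mul_inv_cancel_right]

theorem exists_moving : ∃ α ∈ F.autGroup P, (zIn S P).map α.toMonoidHom ≠ zIn S P := by
  obtain ⟨-, x, -, -, -, -, a₀, ha₀, ha₀N, ha₀P⟩ := exists_data h hF hP.ess hP.ne
  have := finite_of_le hP.le
  have hPp : IsPGroup p P := h.isPGroup.to_le hP.le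
  by_contra hcon
  push Not at hcon
  refine ha₀P (mem_of_conjAut_mem_inn hP.ess.1 (h.le ha₀) (hgN := ha₀N)
    (le_inn_of_isEssential h.isPGroup hP.ess (K := stab (zIn S P) ⊓ F.autGroup P) inf_le_right
      (fun β hβ k hk => ⟨stab_conj (fun u => ?_) hk.1,
        (F.autGroup P).mul_mem ((F.autGroup P).mul_mem hβ hk.2) ((F.autGroup P).inv_mem hβ)⟩)
      ((isPGroup_stab' hPp _).to_le inf_le_left) ⟨hP.mem_stab ha₀ ha₀N,
        autInducedBy_le_autGroup hP.le (mem_autInducedBy.2 ⟨a₀, h.le ha₀, fun u => rfl⟩)⟩))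
  conv_lhs => rw [← hcon β hβ]
  exact mem_map_iff_mem β.injective

variable {α : MulAut P} (hα : α ∈ F.autGroup P) (hne : (zIn S P).map α.toMonoidHom ≠ zIn S P)

include hne in
theorem relIndex_inf :
    (zIn S P ⊓ (zIn S P).map α.toMonoidHom).relIndex (zIn S P) = p := by
  have := finite_of_le hP.le
  haveI : (zIn S P).Normal := ⟨fun u hu v => by
    rwa [show v * u * v⁻¹ = u by
      rw [show v * u = u * v from Subtype.ext (comm_of_mem hP.comm v.2 u.2), mul_inv_cancel_right]]⟩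
  haveI : ((zIn S P).map α.toMonoidHom).Normal :=
    (inferInstance : (zIn S P).Normal).map _ α.surjective
  rw [inf_comm, inf_relIndex_right]
  have hd := relIndex_dvd_index_of_normal (H := (zIn S P).map α.toMonoidHom) (zIn S P)
  have hi : ((zIn S P).map α.toMonoidHom).index = p := (index_map_equiv (zIn S P) α).trans hP.index_zIn
  rw [hi] at hd
  rcases (Nat.dvd_prime hp.out).1 hd with h3 | h3
  · exact absurd (eq_of_le_of_card_ge (relIndex_eq_one.1 h3)
      (card_map_of_injective (K := zIn S P) (f := α.toMonoidHom) α.injective).le).symm hne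
  · exact h3

include hα hne in
theorem eq_one_of_mem_stab {β : MulAut P} (hβ : β ∈ F.autGroup P)
    (hβW : β ∈ stab (zIn S P ⊓ (zIn S P).map α.toMonoidHom)) : β = 1 := by
  have := finite_of_le hP.le
  have := finite_mulAut (S := S) hP.le
  have hPp : IsPGroup p P := h.isPGroup.to_le hP.le
  set Zc := zIn S P with hZc
  set Z' := Zc.map α.toMonoidHom with hZ'
  set W := Zc ⊓ Z' with hW
  set K := stab W ⊓ F.autGroup P with hK
  have hsyl := isSylowIn_autInducedBy h.isPGroup hF hP.ess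
  have hKp : IsPGroup p K := (isPGroup_stab' hPp W).to_le inf_le_left
  have hEst := hP.autInducedBy_le_stab
  have hEle : autInducedBy S P ≤ F.autGroup P := autInducedBy_le_autGroup hP.le
  have hEp : IsPGroup p (autInducedBy S P) := isPGroup_autInducedBy h.isPGroup
  have main : ∀ E' : Subgroup (MulAut P), IsPGroup p E' → E' ≤ F.autGroup P →
      Nat.card E' = Nat.card (autInducedBy S P) → (∀ e ∈ E', ∀ w ∈ W, e w = w) → β ∈ E' := by
    intro E' hE'p hE'le hc hfix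
    have hn : E' ≤ normalizer (K : Set (MulAut P)) := by
      intro e he
      refine mem_normalizer_fintype fun k hk =>
        ⟨stab_conj (fun u => ?_) hk.1,
          (F.autGroup P).mul_mem ((F.autGroup P).mul_mem (hE'le he) hk.2)
            ((F.autGroup P).inv_mem (hE'le he))⟩
      exact ⟨fun hu => by
        have h1 := hfix e he _ hu
        rwa [e.injective h1] at hu, fun hu => by rwa [hfix e he u hu]⟩
    have hsup : IsPGroup p (K ⊔ E' : Subgroup (MulAut P)) :=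
      IsPGroup.to_sup_of_normal_left' hKp hE'p hn
    have hle := hsyl.card_le hsup (sup_le inf_le_right hE'le)
    have := eq_of_le_of_card_ge (le_sup_right : E' ≤ K ⊔ E') (hc ▸ hle)
    rw [this]
    exact mem_sup_left ⟨hβW, hβ⟩
  have h1 : β ∈ autInducedBy S P :=
    main _ hEp hEle rfl fun e he w hw => (hEst he).1 w hw.1
  have h2 : β ∈ (autInducedBy S P).map (MulAut.conj α).toMonoidHom := by
    refine main _ (hEp.map _) ?_ (card_map_of_injective (MulAut.conj α).injective) ?_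
    · rintro _ ⟨e, he, rfl⟩
      exact mul_mem (mul_mem hα (hEle he)) (inv_mem hα)
    · rintro _ ⟨e, he, rfl⟩ w ⟨-, ⟨u, hu, rfl⟩⟩
      show α (e (α⁻¹ (α u))) = α u
      rw [show α⁻¹ (α u) = u from α.symm_apply_apply u, (hEst he).1 u hu]
  have hfix : Zc ⊔ Z' ≤ MonoidHom.eqLocus β.toMonoidHom (MonoidHom.id P) := by
    refine sup_le (fun u hu => (hEst h1).1 u hu) ?_
    rintro _ ⟨u, hu, rfl⟩
    obtain ⟨e, he, rfl⟩ := h2
    show α (e (α⁻¹ (α u))) = α u
    rw [show α⁻¹ (α u) = u from α.symm_apply_apply u, (hEst he).1 u hu]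
  have htop : Zc ⊔ Z' = ⊤ := by
    rw [← index_eq_one]
    have hd : (Zc ⊔ Z').index ∣ p := hP.index_zIn ▸ index_dvd_of_le le_sup_left
    refine ((Nat.dvd_prime hp.out).1 hd).resolve_right fun h3 => hne ?_
    have e1 : (Zc ⊔ Z').index = Zc.index := h3.trans hP.index_zIn.symm
    have e2 := relIndex_mul_index (le_sup_left : Zc ≤ Zc ⊔ Z')
    rw [e1] at e2
    have e3 : Zc.relIndex (Zc ⊔ Z') = 1 := by
      refine Nat.eq_of_mul_eq_mul_right (Nat.pos_of_ne_zero ?_) (e2.trans (one_mul _).symm)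
      rw [hP.index_zIn]; exact hp.out.ne_zero
    exact eq_of_le_of_card_ge (le_sup_right.trans (relIndex_eq_one.1 e3))
      (card_map_of_injective (K := Zc) (f := α.toMonoidHom) α.injective).ge
  ext v
  exact congrArg Subtype.val (hfix (htop ▸ mem_top v))

include hα hne in
theorem commutator_eq_one {a y : Ω} (hyP : y ∈ P) (hy : y ∉ zS S) (ha : a ∈ A)
    (hc : a * y * a⁻¹ * y⁻¹ ∈ (zIn S P ⊓ (zIn S P).map α.toMonoidHom).map P.subtype) :
    a * y * a⁻¹ * y⁻¹ = 1 := by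
  have hcz : a * y * a⁻¹ * y⁻¹ ∈ zS S := by
    obtain ⟨w, hw, hwe⟩ := hc
    rw [← hwe]; exact hw.1
  have hN := hP.mem_normalizer hyP hy ha hcz
  have hone : conjAut P a hN = 1 := by
    refine hP.eq_one_of_mem_stab hα hne
      (autInducedBy_le_autGroup hP.le (mem_autInducedBy.2 ⟨a, h.le ha, fun u => rfl⟩))
      ⟨fun w hw => (hP.mem_stab ha hN).1 w hw.1, fun v => ?_⟩
    obtain ⟨n, d, hd, hvd⟩ := h.exists_eq_mul (hP.le hyP) (hP.not_mem_A hyP hy) (hP.le v.2)
    have hdP : d ∈ P := by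
      have h1 := mul_mem v.2 (inv_mem (zpow_mem hyP n))
      rwa [hvd, mul_inv_cancel_right] at h1
    have h1 : a * y ^ n * a⁻¹ * (y ^ n)⁻¹ ∈ (zIn S P ⊓ (zIn S P).map α.toMonoidHom).map P.subtype :=
      zpow_conj_mem hc (fun u hu => by
        obtain ⟨w, hw, rfl⟩ := hu
        exact (mem_centralizer_iff.1 hw.1.2 y (hP.le hyP)).symm) n
    obtain ⟨w, hw, hwe⟩ := h1
    suffices e : conjAut P a hN v * v⁻¹ = w by rw [e]; exact hw
    refine Subtype.ext ?_
    show a * (v : Ω) * a⁻¹ * (v : Ω)⁻¹ = w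
    rw [hvd, show a * (d * y ^ n) * a⁻¹ * (d * y ^ n)⁻¹ =
        (a * d * a⁻¹) * (a * y ^ n * a⁻¹ * (y ^ n)⁻¹) * d⁻¹ by group,
      comm_of_mem h.comm ha hd, mul_inv_cancel_right, ← hwe]
    show d * (w : Ω) * d⁻¹ = w
    rw [comm_of_mem hP.comm hdP w.2, mul_inv_cancel_right]
  have := congrArg Subtype.val (DFunLike.congr_fun hone ⟨y, hyP⟩)
  rw [conjAut_apply] at this
  exact mul_inv_eq_one.2 this

theorem card_dSub_inf {x : Ω} (hxP : x ∈ P) (hxA : x ∉ A) :
    Nat.card (h.dSub (hP.le hxP) ⊓ zS S : Subgroup Ω) = p := by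
  have hx := hP.le hxP
  have hxz : x ∉ zS S := fun e => hxA (h.zS_le e)
  obtain ⟨α, hα, hne⟩ := hP.exists_moving
  obtain ⟨-, x₁, hx₁P, hx₁A, -, -, a₀, ha₀, ha₀N, ha₀P⟩ := exists_data h hF hP.ess hP.ne
  have := finite_of_le h.le
  have hDS : Finite (h.dSub hx ⊓ zS S : Subgroup Ω) := finite_of_le (inf_le_right.trans inf_le_left)
  have hbot : h.dSub hx ⊓ zS S ≠ ⊥ := by
    intro hbot
    have hm : a₀ * x * a₀⁻¹ * x⁻¹ ∈ h.dSub hx ⊓ zS S := by
      refine ⟨⟨⟨a₀, ha₀⟩, rfl⟩, hP.mem_zS (h.dSub_le hx ⟨⟨a₀, ha₀⟩, rfl⟩) ?_⟩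
      exact mul_mem ((mem_normalizer_iff.1 ha₀N x).1 hxP) (inv_mem hxP)
    rw [hbot, mem_bot] at hm
    exact ha₀P (hP.zS_le (h.mem_zS_of_commute hx hxA ha₀ (mul_inv_eq_iff_eq_mul.1 (mul_inv_eq_one.1 hm))))
  set W := (zIn S P ⊓ (zIn S P).map α.toMonoidHom) with hW
  have hWrel : (W.map P.subtype).relIndex (zS S) = p := by
    conv_rhs => rw [← hP.relIndex_inf hne]
    rw [← relIndex_map_map_of_injective W (zIn S P) P.subtype_injective,
      map_subgroupOf_eq_of_le hP.zS_le]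
  have htriv : W.map P.subtype ⊓ (h.dSub hx ⊓ zS S) = ⊥ := by
    rw [_root_.eq_bot_iff]
    rintro d ⟨hdW, ⟨⟨a, ha⟩, rfl⟩, -⟩
    exact mem_bot.2 (hP.commutator_eq_one hα hne hxP hxz ha hdW)
  have hdz : Nat.card (h.dSub hx ⊓ zS S : Subgroup Ω) ≤ p := by
    have e1 := relIndex_le_of_le_right (H := W.map P.subtype)
      (inf_le_right : h.dSub hx ⊓ zS S ≤ zS S) (by rw [hWrel]; exact hp.out.ne_zero)
    rw [hWrel, ← inf_relIndex_right, htriv, relIndex_bot_left] at e1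
    exact e1
  obtain ⟨k, hk⟩ := (h.isPGroup.to_le (inf_le_right.trans inf_le_left :
    h.dSub hx ⊓ zS S ≤ S)).exists_card_eq
  rw [hk] at hdz ⊢
  have hk0 : k ≠ 0 := fun e => hbot (eq_bot_of_card_eq _ (by rw [hk, e, pow_zero]))
  have : k ≤ 1 := (Nat.pow_le_pow_iff_right hp.out.one_lt).1 (by rwa [pow_one])
  rw [show k = 1 by omega, pow_one]

end AbEss

end Cfsg.Agent.Lib.AbelianMaximal
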