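import Mathlib
import Cfsg.Agent.Lib.AbelianMaximal.Abelian
import Cfsg.Agent.Lib.SZ.Card
/-!
Structure of `S` and of the essential subgroups for a unique abelian subgroup of index `p`.
-/

set_option autoImplicit false

namespace Cfsg.Agent.Lib.AbelianMaximal

open Subgroup Cfsg
open Cfsg.FusionSystem hiding inv_mem conj_mem
open Cfsg.Agent.Lib Cfsg.Agent.Lib.Fusion

variable {Ω : Type*} [Group Ω] {S : Subgroup Ω} {p : ℕ} [hp : Fact p.Prime] {F : FusionSystem S}
  {A : Subgroup Ω} [Finite S]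

theorem mem_center_iff_mem_zS (u : S) : u ∈ center S ↔ (u : Ω) ∈ zS S := by
  rw [mem_center_iff]
  constructor
  · exact fun e => ⟨u.2, mem_centralizer_iff.2 fun v hv => congrArg Subtype.val (e ⟨v, hv⟩)⟩
  · exact fun e v => Subtype.ext (mem_centralizer_iff.1 e.2 v v.2)

namespace Setting

variable (h : Setting p S A)

include h

theorem card_eq_mul {B : Subgroup Ω} (hB : B ≤ S) (hBA : ¬ B ≤ A) :
    Nat.card B = p * Nat.card (B ⊓ A : Subgroup Ω) := by
  haveI := h.normal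
  have hd : A.relIndex B ∣ p := by
    have h1 := relIndex_dvd_index_of_normal (H := A.subgroupOf S) (B.subgroupOf S)
    rw [h.index] at h1
    have h2 : (A.subgroupOf S).relIndex (B.subgroupOf S) = A.relIndex B := by
      conv_rhs => rw [← inf_relIndex_right]
      rw [← relIndex_map_map_of_injective (A.subgroupOf S) (B.subgroupOf S) S.subtype_injective,
        map_subgroupOf_eq_of_le h.le, map_subgroupOf_eq_of_le hB, inf_relIndex_right]
    rwa [h2] at h1
  have h3 : A.relIndex B = p :=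
    ((Nat.dvd_prime hp.out).1 hd).resolve_left fun e => hBA (relIndex_eq_one.1 e)
  rw [← relIndex_bot_left, ← relIndex_mul_relIndex ⊥ (B ⊓ A) B bot_le inf_le_left, inf_comm B A,
    inf_relIndex_right, h3, relIndex_bot_left, Nat.mul_comm]

/-- The preimage in `A` of `U` under the commutation map. -/
def pre {x : Ω} (hx : x ∈ S) (U : Subgroup Ω) : Subgroup Ω := (U.comap (h.cHom hx)).map A.subtype

theorem mem_pre {x : Ω} (hx : x ∈ S) {U : Subgroup Ω} {a : Ω} :
    a ∈ h.pre hx U ↔ a ∈ A ∧ a * x * a⁻¹ * x⁻¹ ∈ U := by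
  constructor
  · rintro ⟨b, hb, rfl⟩; exact ⟨b.2, hb⟩
  · rintro ⟨ha, hc⟩; exact ⟨⟨a, ha⟩, hc, rfl⟩

theorem pre_le {x : Ω} (hx : x ∈ S) (U : Subgroup Ω) : h.pre hx U ≤ A :=
  fun _ ha => ((h.mem_pre hx).1 ha).1

theorem card_pre {x : Ω} (hx : x ∈ S) (hxA : x ∉ A) (U : Subgroup Ω) :
    Nat.card (h.pre hx U) = Nat.card (h.dSub hx ⊓ U : Subgroup Ω) * Nat.card (zS S) := by
  set f := (h.cHom hx).comp (U.comap (h.cHom hx)).subtype
  have hr : f.range = h.dSub hx ⊓ U := by
    rw [MonoidHom.range_comp, range_subtype]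
    exact (map_comap_eq _ _).trans rfl
  have hk : f.ker = (h.cHom hx).ker.subgroupOf (U.comap (h.cHom hx)) := rfl
  have e := f.ker.card_mul_index
  have e1 : Nat.card ((h.cHom hx).ker.subgroupOf (U.comap (h.cHom hx))) = Nat.card (zS S) := by
    rw [Nat.card_congr (subgroupOfEquivOfLe fun a (ha : h.cHom hx a = 1) => show h.cHom hx a ∈ U by
      rw [ha]; exact U.one_mem).toEquiv, h.ker_cHom hx hxA,
      Nat.card_congr (subgroupOfEquivOfLe h.zS_le).toEquiv]
  rw [index_ker, hr, hk, e1, Nat.mul_comm] at e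
  rw [pre, card_map_of_injective A.subtype_injective, e]

theorem upperCentralSeries_eq {x : Ω} (hx : x ∈ S) (hxA : x ∉ A)
    (hDZ : Nat.card (h.dSub hx ⊓ zS S : Subgroup Ω) = p) :
    (_root_.upperCentralSeries S 2).map S.subtype = h.pre hx (zS S) := by
  refine le_antisymm ?_ fun a ha => ?_
  · rintro _ ⟨u, hu, rfl⟩
    have hu' := (Subgroup.mem_upperCentralSeries_succ_iff).1 hu
    simp only [Subgroup.upperCentralSeries_one, mem_center_iff_mem_zS] at hu'
    refine (h.mem_pre hx).2 ⟨?_, by simpa [commutatorElement_def] using hu' ⟨x, hx⟩⟩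
    by_contra huA
    have hle : h.dSub u.2 ≤ h.dSub hx ⊓ zS S := by
      refine le_inf (by rw [← h.commutator_eq_dSub hx hxA, ← h.commutator_eq_dSub u.2 huA]) ?_
      rintro _ ⟨a, rfl⟩
      show (a : Ω) * u * (a : Ω)⁻¹ * (u : Ω)⁻¹ ∈ zS S
      have := (zS S).inv_mem (hu' ⟨a, h.le a.2⟩)
      simpa [commutatorElement_def, mul_assoc] using this
    have : Finite (h.dSub hx ⊓ zS S : Subgroup Ω) := finite_of_le (inf_le_right.trans inf_le_left)
    have h1 := card_le_of_le hle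
    rw [hDZ] at h1
    have h2 := h.sq_le_card_dSub u.2 huA
    nlinarith [hp.out.two_le]
  · obtain ⟨haA, hc⟩ := (h.mem_pre hx).1 ha
    refine ⟨⟨a, h.le haA⟩, Subgroup.mem_upperCentralSeries_succ_iff.2 fun v => ?_, rfl⟩
    rw [Subgroup.upperCentralSeries_one, mem_center_iff_mem_zS]
    obtain ⟨n, b, hb, hv⟩ := h.exists_eq_mul hx hxA v.2
    have h1 := zpow_conj_mem hc (fun u hu => (mem_centralizer_iff.1 hu.2 x hx).symm) n
    show a * (v : Ω) * a⁻¹ * (v : Ω)⁻¹ ∈ zS S
    rw [hv, show a * (b * x ^ n) * a⁻¹ * (b * x ^ n)⁻¹ =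
        (a * b * a⁻¹) * (a * x ^ n * a⁻¹ * (x ^ n)⁻¹) * b⁻¹ by group,
      comm_of_mem h.comm haA hb, mul_inv_cancel_right, comm_of_mem h.comm hb (h.zS_le h1),
      mul_inv_cancel_right]
    exact h1

theorem upperCentralSeries_le {x : Ω} (hx : x ∈ S) (hxA : x ∉ A)
    (hDZ : Nat.card (h.dSub hx ⊓ zS S : Subgroup Ω) = p) :
    (_root_.upperCentralSeries S 2).map S.subtype ≤ A :=
  (h.upperCentralSeries_eq hx hxA hDZ).trans_le (h.pre_le hx _)

theorem maximal_class {x : Ω} (hx : x ∈ S) (hxA : x ∉ A)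
    (hDZ : Nat.card (h.dSub hx ⊓ zS S : Subgroup Ω) = p) {m : ℕ}
    (hm : ((zS S).subgroupOf S).index = p ^ m) (hm3 : 3 ≤ m) :
    ¬ Subgroup.lowerCentralSeries S (m - 2) ≤ zS S := by
  intro hle
  obtain ⟨k, rfl⟩ : ∃ k, m = k + 3 := ⟨m - 3, by omega⟩
  rw [show k + 3 - 2 = k + 1 by omega] at hle
  have h1 := h.card_dSub_le_dIter hx hxA hDZ k
  have : Finite (h.dSub hx ⊓ zS S : Subgroup Ω) := finite_of_le (inf_le_right.trans inf_le_left)
  have h2 : Nat.card (h.dIter hx (k + 1)) ≤ p := by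
    refine le_of_le_of_eq ?_ hDZ
    exact card_le_of_le (le_inf (h.dIter_succ_le hx k)
      ((h.dIter_le_lowerCentralSeries hx (k + 1)).trans hle))
  have h3 : Nat.card A * p = Nat.card S := by
    have := (A.subgroupOf S).card_mul_index
    rwa [h.index, Nat.card_congr (subgroupOfEquivOfLe h.le).toEquiv] at this
  have h4 := ((zS S).subgroupOf S).card_mul_index
  rw [hm, Nat.card_congr (subgroupOfEquivOfLe (show zS S ≤ S from inf_le_left)).toEquiv, ← h3,
    ← h.card_dSub_mul hx hxA] at h4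
  have : Finite (zS S) := finite_of_le (inf_le_left : zS S ≤ S)
  have hz : 0 < Nat.card (zS S) := Nat.card_pos
  have h5 : Nat.card (h.dSub hx) = p ^ (k + 2) := by
    refine Nat.eq_of_mul_eq_mul_left (Nat.mul_pos hz hp.out.pos) ?_
    calc Nat.card (zS S) * p * Nat.card (h.dSub hx)
        = Nat.card (h.dSub hx) * Nat.card (zS S) * p := by ring
      _ = Nat.card (zS S) * p ^ (k + 3) := h4.symm
      _ = Nat.card (zS S) * p * p ^ (k + 2) := by ring
  rw [h5] at h1
  have h6 : p ^ (k + 2) ≤ p ^ (k + 1) :=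
    h1.trans ((Nat.mul_le_mul_right _ h2).trans_eq (pow_succ' p k).symm)
  have := (Nat.pow_le_pow_iff_right hp.out.one_lt).1 h6
  omega

end Setting

/-- What is known about an essential subgroup `P ≠ A`. -/
theorem ess_structure (h : Setting p S A) (hF : F.IsSaturated p) {P : Subgroup Ω}
    (hP : F.IsEssential p P) (hPA : P ≠ A) :
    ∃ x ∈ P, ∃ hx : x ∈ S, x ∉ A ∧ Nat.card (h.dSub hx ⊓ zS S : Subgroup Ω) = p ∧
      zS S ≤ P ⊓ A ∧
      ((P ⊓ A = zS S ∧ P = zS S ⊔ zpowers x) ∨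
       (P ⊓ A = (_root_.upperCentralSeries S 2).map S.subtype ∧
          P = (_root_.upperCentralSeries S 2).map S.subtype ⊔ zpowers x)) := by
  obtain ⟨hzP, -⟩ := exists_data h hF hP hPA
  have hzPA : zS S ≤ P ⊓ A := le_inf hzP h.zS_le
  have hPS : P ≤ S := hP.1.1
  by_cases hPc : IsMulCommutative P
  · have hP' : AbEss h hF P := ⟨hP, hPA, hPc⟩
    obtain ⟨-, x, hxP, hxA, -⟩ := exists_data h hF hP hPA
    refine ⟨x, hxP, hPS hxP, hxA, hP'.card_dSub_inf hxP hxA, hzPA, Or.inl ⟨?_, ?_⟩⟩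
    · exact le_antisymm (fun u hu => hP'.mem_zS hu.2 hu.1) hzPA
    · exact hP'.eq_sup hxP fun e => hxA (h.zS_le e)
  · obtain ⟨x, hxP, hx, hxA, hdec, hiff, hidx⟩ := nonabelian_case h hF hP hPA hPc
    have heq : P ⊓ A = h.pre hx (zS S) := by
      ext a
      rw [h.mem_pre hx]
      exact ⟨fun e => ⟨e.2, (hiff a e.2).2 e.1⟩, fun e => ⟨(hiff a e.1).1 e.2, e.1⟩⟩
    have hDZ : Nat.card (h.dSub hx ⊓ zS S : Subgroup Ω) = p := by
      have e := ((zS S).subgroupOf (P ⊓ A)).card_mul_index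
      rw [hidx, Nat.card_congr (subgroupOfEquivOfLe hzPA).toEquiv, heq, h.card_pre hx hxA] at e
      have : Finite (zS S) := finite_of_le (inf_le_left : zS S ≤ S)
      refine Nat.eq_of_mul_eq_mul_right (Nat.card_pos : 0 < Nat.card (zS S)) ?_
      rw [← e, Nat.mul_comm]
    refine ⟨x, hxP, hx, hxA, hDZ, hzPA, Or.inr ?_⟩
    rw [h.upperCentralSeries_eq hx hxA hDZ, ← heq]
    refine ⟨rfl, le_antisymm (fun v hv => ?_) (sup_le inf_le_left (zpowers_le.2 hxP))⟩
    obtain ⟨n, b, hb, hbP, rfl⟩ := hdec v hv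
    exact mul_mem (mem_sup_left ⟨hbP, hb⟩) (mem_sup_right (zpow_mem (mem_zpowers x) n))

/-- An essential subgroup has index `p` in its normaliser. -/
theorem index_normalizer (h : Setting p S A) (hF : F.IsSaturated p) {P : Subgroup Ω}
    (hP : F.IsEssential p P) :
    (P.subgroupOf (S ⊓ normalizer (P : Set Ω))).index = p := by
  have hPS : P ≤ S := hP.1.1
  by_cases hPA : P = A
  · subst hPA
    have : S ⊓ normalizer (P : Set Ω) = S := by
      refine inf_eq_left.2 fun s hs => ?_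
      have := finite_of_le hPS
      exact mem_normalizer_fintype (S := (P : Set Ω)) fun a ha => h.conj_mem hs ha
    rw [this]; exact h.index
  set N := S ⊓ normalizer (P : Set Ω) with hN
  obtain ⟨x, hxP, hx, hxA, hDZ, hzPA, hcases⟩ := ess_structure h hF hP hPA
  have hPN : P ≤ N := le_inf hPS le_normalizer
  have hNS : N ≤ S := inf_le_left
  have := finite_of_le hNS
  have := finite_of_le hPS
  have := finite_of_le h.le
  have : Finite (zS S) := finite_of_le (inf_le_left : zS S ≤ S)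
  have hM : N ⊓ A ≤ h.pre hx (P ⊓ A) := by
    intro a ha
    refine (h.mem_pre hx).2 ⟨ha.2, P.mul_mem ((mem_normalizer_iff.1 ha.1.2 x).1 hxP) (P.inv_mem hxP), ?_⟩
    rw [show a * x * a⁻¹ * x⁻¹ = a * (x * a⁻¹ * x⁻¹) by group]
    exact mul_mem ha.2 (h.conj_mem hx (inv_mem ha.2))
  have hfD : Finite (h.dSub hx ⊓ (P ⊓ A) : Subgroup Ω) :=
    finite_of_le (inf_le_right.trans (inf_le_left.trans hPS))
  have hrel : Nat.card (h.dSub hx ⊓ (P ⊓ A) : Subgroup Ω) * Nat.card (zS S) ≤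
      p * Nat.card (P ⊓ A : Subgroup Ω) := by
    have := finite_of_le (inf_le_left.trans hPS : P ⊓ A ≤ S)
    have h1 : (zS S).relIndex (h.dSub hx ⊓ (P ⊓ A)) ≤ (zS S).relIndex (P ⊓ A) :=
      relIndex_le_of_le_right inf_le_right (by
        rw [relIndex, ← Nat.pos_iff_ne_zero]; exact Nat.pos_of_ne_zero index_ne_zero_of_finite)
    have h2 : Nat.card (h.dSub hx ⊓ (P ⊓ A) : Subgroup Ω) =
        p * (zS S).relIndex (h.dSub hx ⊓ (P ⊓ A)) := by
      rw [← relIndex_bot_left, ← relIndex_mul_relIndex ⊥ (zS S ⊓ (h.dSub hx ⊓ (P ⊓ A))) _ bot_le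
        inf_le_right, inf_relIndex_right, relIndex_bot_left]
      refine congrArg (· * _) (Eq.trans (congrArg (fun K : Subgroup Ω => Nat.card K) ?_) hDZ)
      exact le_antisymm (le_inf (inf_le_right.trans inf_le_left) inf_le_left)
        (le_inf inf_le_right (le_inf inf_le_left (inf_le_right.trans hzPA)))
    have h3 : Nat.card (P ⊓ A : Subgroup Ω) = Nat.card (zS S) * (zS S).relIndex (P ⊓ A) := by
      rw [← relIndex_bot_left, ← relIndex_mul_relIndex ⊥ (zS S) (P ⊓ A) bot_le hzPA, relIndex_bot_left]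
    rw [h2, h3, mul_assoc]
    refine Nat.mul_le_mul_left _ ?_
    rw [Nat.mul_comm]
    exact Nat.mul_le_mul_left _ h1
  have hNA : Nat.card (N ⊓ A : Subgroup Ω) ≤ p * Nat.card (P ⊓ A : Subgroup Ω) := by
    have := finite_of_le ((h.pre_le hx (P ⊓ A)).trans h.le)
    calc Nat.card (N ⊓ A : Subgroup Ω) ≤ Nat.card (h.pre hx (P ⊓ A)) := card_le_of_le hM
      _ = _ := h.card_pre hx hxA _
      _ ≤ _ := hrel
  have hN' := h.card_eq_mul hNS fun e => hxA (e (hPN hxP))
  have hP' := h.card_eq_mul hPS fun e => hxA (e hxP)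
  have e := (P.subgroupOf N).card_mul_index
  rw [Nat.card_congr (subgroupOfEquivOfLe hPN).toEquiv] at e
  have hle : (P.subgroupOf N).index ≤ p := by
    refine Nat.le_of_mul_le_mul_left (show Nat.card P * _ ≤ Nat.card P * p from ?_) Nat.card_pos
    rw [e, hN', hP', mul_assoc, Nat.mul_comm (Nat.card (P ⊓ A : Subgroup Ω))]
    exact Nat.mul_le_mul_left _ hNA
  have hne : (P.subgroupOf N).index ≠ 1 := by
    rw [Ne, index_eq_one, subgroupOf_eq_top]
    have hne' : P < S := lt_of_le_of_ne hPS (ne_of_isEssential h.isPGroup hF hP)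
    obtain ⟨g, hg, hgP⟩ := SetLike.exists_of_lt (lt_normalizerIn h.isPGroup hne')
    exact fun hle => hgP (hle hg)
  obtain ⟨j, hj⟩ := (h.isPGroup.to_le hNS).index (P.subgroupOf N)
  rw [hj] at hle hne ⊢
  have hj0 : j ≠ 0 := by rintro rfl; exact hne (pow_zero p)
  have : j ≤ 1 := (Nat.pow_le_pow_iff_right hp.out.one_lt).1 (by rwa [pow_one])
  rw [show j = 1 by omega, pow_one]

end Cfsg.Agent.Lib.AbelianMaximal

namespace Cfsg.Agent.Lib.AbelianMaximal

open Subgroup
open Cfsg.Agent.Lib Cfsg.Agent.Lib.Fusion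

variable {Ω : Type*} [Group Ω] {S : Subgroup Ω} {p : ℕ} [hp : Fact p.Prime] {A : Subgroup Ω}
  [Finite S]

theorem card_sup_mul_card_inf (hA : IsMulCommutative A) {H K : Subgroup Ω} (hH : H ≤ A) (hK : K ≤ A) :
    Nat.card (H ⊔ K : Subgroup Ω) * Nat.card (H ⊓ K : Subgroup Ω) = Nat.card H * Nat.card K := by
  haveI : (K.subgroupOf A).Normal := ⟨fun u hu v => by
    rwa [show v * u * v⁻¹ = u by
      rw [hA.is_comm.comm v u, mul_inv_cancel_right]]⟩
  have h1 := SZ.card_sup_mul_card_inf (H.subgroupOf A) (K.subgroupOf A)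
  rwa [← subgroupOf_sup hH hK, show H.subgroupOf A ⊓ K.subgroupOf A = (H ⊓ K).subgroupOf A from rfl,
    Nat.card_congr (subgroupOfEquivOfLe (sup_le hH hK)).toEquiv,
    Nat.card_congr (subgroupOfEquivOfLe (inf_le_left.trans hH : H ⊓ K ≤ A)).toEquiv,
    Nat.card_congr (subgroupOfEquivOfLe hH).toEquiv,
    Nat.card_congr (subgroupOfEquivOfLe hK).toEquiv] at h1

theorem structure_of_card (h : Setting p S A) {x : Ω} (hx : x ∈ S) (hxA : x ∉ A)
    (hDZ : Nat.card (h.dSub hx ⊓ zS S : Subgroup Ω) = p) :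
    ((_root_.upperCentralSeries S 2).map S.subtype) ≤ A ∧
      Nat.card (zS S ⊓ ((commutator S).map S.subtype) : Subgroup Ω) = p ∧
      ((zS S ⊔ ((commutator S).map S.subtype)).subgroupOf A).index = p ∧
      ((zS S).subgroupOf ((_root_.upperCentralSeries S 2).map S.subtype)).index = p ∧
      ∀ m : ℕ, ((zS S).subgroupOf S).index = p ^ m → 3 ≤ m →
        ¬ Subgroup.lowerCentralSeries S (m - 2) ≤ zS S := by
  rw [h.commutator_eq_dSub hx hxA, h.upperCentralSeries_eq hx hxA hDZ, inf_comm (zS S)]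
  have := finite_of_le h.le
  have : Finite (zS S) := finite_of_le (inf_le_left : zS S ≤ S)
  refine ⟨h.pre_le hx _, hDZ, ?_, ?_, fun m hm hm3 => h.maximal_class hx hxA hDZ hm hm3⟩
  · have hsup : zS S ⊔ h.dSub hx ≤ A := sup_le h.zS_le (h.dSub_le hx)
    have := finite_of_le (hsup.trans h.le)
    have e1 := ((zS S ⊔ h.dSub hx).subgroupOf A).card_mul_index
    rw [Nat.card_congr (subgroupOfEquivOfLe hsup).toEquiv, ← h.card_dSub_mul hx hxA] at e1
    have e2 : Nat.card (zS S ⊔ h.dSub hx : Subgroup Ω) * p = Nat.card (h.dSub hx) * Nat.card (zS S) := by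
      have e := card_sup_mul_card_inf h.comm h.zS_le (h.dSub_le hx)
      rw [inf_comm, hDZ] at e
      rw [e, Nat.mul_comm]
    refine Nat.eq_of_mul_eq_mul_left (Nat.card_pos : 0 < Nat.card (zS S ⊔ h.dSub hx : Subgroup Ω)) ?_
    rw [e1, e2]
  · have hle : zS S ≤ h.pre hx (zS S) := fun z hz => (h.mem_pre hx).2 ⟨h.zS_le hz, by
      rw [← mem_centralizer_iff.1 hz.2 x hx]; group; exact one_mem _⟩
    have e1 := ((zS S).subgroupOf (h.pre hx (zS S))).card_mul_index
    rw [Nat.card_congr (subgroupOfEquivOfLe hle).toEquiv, h.card_pre hx hxA, hDZ,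
      Nat.mul_comm p] at e1
    exact Nat.eq_of_mul_eq_mul_left Nat.card_pos e1

end Cfsg.Agent.Lib.AbelianMaximal
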