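import Mathlib
import Cfsg.Agent.Lib.AbelianMaximal.Main
import Cfsg.Agent.Lib.Fusion.Normal
/-!
A core-free system over a group with a unique abelian subgroup of index `p`, that subgroup not being
essential.
-/

set_option autoImplicit false

namespace Cfsg.Agent.Lib.AbelianMaximal

open Subgroup Cfsg
open Cfsg.FusionSystem hiding inv_mem conj_mem
open Cfsg.Agent.Lib Cfsg.Agent.Lib.Fusion

variable {Ω : Type*} [Group Ω] {S : Subgroup Ω} {p : ℕ} [hp : Fact p.Prime] {F : FusionSystem S}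
  {A : Subgroup Ω} [Finite S]

/-- `Z(S) ∩ [S, S]`. -/
def dz (S : Subgroup Ω) : Subgroup Ω := (commutator S).map S.subtype ⊓ zS S

theorem mem_zS_map_aut (γ : MulAut S) {z : S} : (γ z : Ω) ∈ zS S ↔ (z : Ω) ∈ zS S := by
  rw [← mem_center_iff_mem_zS, ← mem_center_iff_mem_zS]
  constructor
  · intro hz
    rw [mem_center_iff]
    intro v
    refine γ.injective ?_
    rw [map_mul, map_mul, mem_center_iff.1 hz (γ v)]
  · intro hz
    rw [mem_center_iff]
    intro v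
    obtain ⟨v, rfl⟩ := γ.surjective v
    rw [← map_mul, ← map_mul, mem_center_iff.1 hz v]

theorem aut_mem_dz (γ : MulAut S) {z : S} (hz : (z : Ω) ∈ dz S) : (γ z : Ω) ∈ dz S := by
  refine ⟨?_, (mem_zS_map_aut γ).2 hz.2⟩
  obtain ⟨c, hc, hcz⟩ := hz.1
  obtain rfl : c = z := Subtype.ext hcz
  refine mem_map_of_mem _ ?_
  have : (commutator S).map γ.toMonoidHom ≤ commutator S := by
    rw [_root_.commutator_def, map_commutator]
    exact commutator_mono le_top le_top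
  exact this (mem_map_of_mem _ hc)

/-- An automorphism of `Z(S)` in the system extends to an automorphism of `S`. -/
theorem exists_extension (hS : IsPGroup p S) (hF : F.IsSaturated p) {φ : zS S →* Ω}
    (hφ : φ ∈ F.Hom (zS S)) (hr : φ.range = zS S) :
    ∃ γ ∈ F.autGroup S, ∀ z : zS S, (γ ⟨z, z.2.1⟩ : Ω) = φ z := by
  have hZS : zS S ≤ S := inf_le_left
  have hN : normalizerIn S (zS S) = S := by
    refine inf_eq_left.2 fun s hs => ?_
    have := finite_of_le hZS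
    refine mem_normalizer_fintype (S := ((zS S : Subgroup Ω) : Set Ω)) fun z hz => ?_
    have e : s * z * s⁻¹ = z := by rw [mem_centralizer_iff.1 hz.2 s hs, mul_inv_cancel_right]
    rwa [e]
  have hfn : F.IsFullyNormalized (zS S) := ⟨hZS, fun Q _ => by
    rw [hN]; exact card_le_of_le inf_le_left⟩
  obtain ⟨ψ, hψ, hag⟩ := (isReceptive_of_isFullyNormalized hS hF hfn).2 _ φ hφ hr
  have hext : S ≤ extender S (zS S) φ := fun s hs =>
    sup_centralizerIn_le_extender hφ (mem_sup_right ⟨hs, mem_centralizer_iff.2 fun z hz =>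
      (mem_centralizer_iff.1 hz.2 s hs).symm⟩)
  have hψ' := restrict_mem hψ hext
  obtain ⟨γ, hγ, hγe⟩ := exists_aut_of_hom hψ' (fun x => val_mem hψ' x)
  exact ⟨γ, hγ, fun z => (hγe ⟨z, z.2.1⟩).trans (hag z z.2 (hext z.2.1))⟩

/-- Two automorphisms of `S` which invert `Z(S) ∩ [S,S]` and centralise `Z(S)` modulo it agree on
`Z(S)`. -/
theorem eq_on_zS (hS : IsPGroup p S) (hF : F.IsSaturated p) (hdz : Nat.card (dz S) = p)
    {γ γ' : MulAut S} (hγ : γ ∈ F.autGroup S) (hγ' : γ' ∈ F.autGroup S)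
    (h1 : ∀ d : S, (d : Ω) ∈ dz S → γ d = d⁻¹) (h1' : ∀ d : S, (d : Ω) ∈ dz S → γ' d = d⁻¹)
    (h2 : ∀ z : S, (z : Ω) ∈ zS S → ((γ z * z⁻¹ : S) : Ω) ∈ dz S)
    (h2' : ∀ z : S, (z : Ω) ∈ zS S → ((γ' z * z⁻¹ : S) : Ω) ∈ dz S) :
    ∀ z : S, (z : Ω) ∈ zS S → γ z = γ' z := by
  intro z hz
  set η := γ⁻¹ * γ' with hη
  have hηmem : η ∈ F.autGroup S := mul_mem (Subgroup.inv_mem _ hγ) hγ'
  have hηd : ∀ d : S, (d : Ω) ∈ dz S → η d = d := by
    intro d hd
    refine γ.injective ?_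
    rw [show γ (η d) = γ' d from γ.apply_symm_apply _, h1' d hd, h1 d hd]
  set d₀ : S := η z * z⁻¹
  have hd₀ : (d₀ : Ω) ∈ dz S := by
    have e1 : ((γ (η z) * z⁻¹ : S) : Ω) ∈ dz S := by
      rw [show γ (η z) = γ' z from γ.apply_symm_apply _]; exact h2' z hz
    have e2 : ((γ z * z⁻¹ : S) : Ω) ∈ dz S := h2 z hz
    have e3 : ((γ (η z * z⁻¹) : S) : Ω) ∈ dz S := by
      rw [show γ (η z * z⁻¹) = (γ (η z) * z⁻¹) * (γ z * z⁻¹)⁻¹ by
        rw [map_mul, map_inv]; group, Subgroup.coe_mul, Subgroup.coe_inv]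
      exact (dz S).mul_mem e1 ((dz S).inv_mem e2)
    have := aut_mem_dz γ⁻¹ e3
    rwa [show γ⁻¹ (γ (η z * z⁻¹)) = η z * z⁻¹ from γ.symm_apply_apply _] at this
  have hpow : ∀ n : ℕ, (η ^ n) z = d₀ ^ n * z := by
    intro n
    induction n with
    | zero => simp
    | succ n ih =>
      rw [pow_succ', MulAut.mul_apply, ih, map_mul, map_pow, hηd _ hd₀, pow_succ d₀,
        mul_assoc (_ ^ n), inv_mul_cancel_right]
  have hd₀p : d₀ ^ p = 1 := by
    have e : (⟨(d₀ : Ω), hd₀⟩ : dz S) ^ p = 1 := by rw [← hdz]; exact pow_card_eq_one'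
    exact Subtype.ext (by simpa using congrArg Subtype.val e)
  -- the index of the inner automorphisms is prime to `p`
  have := finite_autGroup (F := F) (le_refl S)
  obtain ⟨-, hsyl⟩ := isFullyAutomized_iff.1
    (isFullyAutomized_of_isFullyNormalized hS hF (isFullyNormalized_top F))
  rw [← inn_eq_autInducedBy] at hsyl
  set n := ((Inn S).subgroupOf (F.autGroup S)).index
  have hn : ¬ p ∣ n := hsyl.2.2
  haveI := inn_normal_subgroupOf F S
  have hin : η ^ n ∈ Inn S :=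
    (Subgroup.pow_index_mem ((Inn S).subgroupOf (F.autGroup S)) ⟨η, hηmem⟩ : _)
  have hnz : (η ^ n) z = z := by
    obtain ⟨y, hy⟩ := hin
    rw [← hy]
    refine Subtype.ext ?_
    show (y : Ω) * z * (y : Ω)⁻¹ = z
    rw [mem_centralizer_iff.1 hz.2 y y.2, mul_inv_cancel_right]
  have hdn : d₀ ^ n = 1 := mul_eq_right.1 ((hpow n).symm.trans hnz)
  have hd1 : d₀ = 1 := by
    have := pow_gcd_eq_one.2 ⟨hdn, hd₀p⟩
    rwa [Nat.Coprime.gcd_eq_one ((hp.out.coprime_iff_not_dvd.2 hn).symm), pow_one] at this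
  rw [← show γ (η z) = γ' z from γ.apply_symm_apply _, mul_inv_eq_one.1 hd1]

namespace AbEss

variable {h : Setting p S A} {hF : F.IsSaturated p} {P : Subgroup Ω} (hP : AbEss h hF P)
  {α : MulAut P} (hα : α ∈ F.autGroup P) (hne : (zIn S P).map α.toMonoidHom ≠ zIn S P)

/-- The centre of `S` fixed by `P` and its moved image, in the ambient group. -/
abbrev wOut (S P : Subgroup Ω) (α : MulAut P) : Subgroup Ω :=
  (zIn S P ⊓ (zIn S P).map α.toMonoidHom).map P.subtype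

include hP hα hne in
theorem exists_gamma (hp2 : p ≠ 2) : Nat.card (dz S) = p ∧ dz S ⊔ wOut S P α = zS S ∧
    ∃ γ ∈ F.autGroup S, (∀ d : S, (d : Ω) ∈ dz S → γ d = d⁻¹) ∧
      (∀ z : S, (z : Ω) ∈ zS S → ((γ z * z⁻¹ : S) : Ω) ∈ dz S) ∧
      ∀ z : S, (z : Ω) ∈ wOut S P α ↔ ((z : Ω) ∈ zS S ∧ γ z = z) := by
  have hPS := hP.le
  have := finite_of_le hPS
  set Zc := zIn S P with hZc
  set Z' := Zc.map α.toMonoidHom with hZ'
  set W := Zc ⊓ Z' with hW
  haveI hnor : ∀ K : Subgroup P, K.Normal := fun K => ⟨fun u hu v => by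
    rwa [show v * u * v⁻¹ = u by
      rw [show v * u = u * v from Subtype.ext (comm_of_mem hP.comm v.2 u.2), mul_inv_cancel_right]]⟩
  have hrel : W.relIndex Zc = p := hP.relIndex_inf hne
  obtain ⟨x', hx'Z', hx'Zc⟩ : ∃ v ∈ Z', v ∉ Zc := by
    by_contra hcon
    push Not at hcon
    exact hne (eq_of_le_of_card_ge hcon
      (card_map_of_injective (K := Zc) (f := α.toMonoidHom) α.injective).ge)
  have hxA : (x' : Ω) ∉ A := hP.not_mem_A x'.2 hx'Zc
  have hx := hPS x'.2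
  have hdzeq : dz S = h.dSub hx ⊓ zS S := by rw [dz, h.commutator_eq_dSub hx hxA]
  have hdz : Nat.card (dz S) = p := hdzeq ▸ hP.card_dSub_inf x'.2 hxA
  obtain ⟨z₀, hz₀, hz₀1⟩ : ∃ z ∈ dz S, z ≠ 1 := by
    refine SetLike.exists_of_lt (bot_lt_iff_ne_bot.2 ?_) |>.imp fun z hz =>
      ⟨hz.1, fun e => hz.2 (mem_bot.2 e)⟩
    intro e
    rw [e, card_bot] at hdz
    exact hp.out.ne_one hdz.symm
  obtain ⟨⟨a, ha⟩, hae⟩ := (hdzeq ▸ hz₀ : z₀ ∈ h.dSub hx ⊓ zS S).1
  have hca : a * x' * a⁻¹ * (x' : Ω)⁻¹ = z₀ := hae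
  have hN := hP.mem_normalizer x'.2 hx'Zc ha (hca ▸ hz₀.2)
  set u := conjAut P a hN with hu
  have huF : u ∈ F.autGroup P :=
    autInducedBy_le_autGroup hPS (mem_autInducedBy.2 ⟨a, h.le ha, fun v => rfl⟩)
  set z₀c : P := ⟨z₀, hP.zS_le hz₀.2⟩
  have hz₀Zc : z₀c ∈ Zc := hz₀.2
  have hz₀W : z₀c ∉ W := fun e => hz₀1 (by
    rw [← hca]
    exact hP.commutator_eq_one hα hne x'.2 hx'Zc ha (hca ▸ mem_map_of_mem P.subtype e))
  have hust := hP.mem_stab ha hN
  have hux : u x' = z₀c * x' := Subtype.ext (by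
    show a * (x' : Ω) * a⁻¹ = z₀ * x'
    rw [← hca, inv_mul_cancel_right])
  -- generation of `Zc` and `Z'` modulo `W`
  have hgen : ∀ {U : Subgroup P}, W ≤ U → W.relIndex U = p → ∀ g ∈ U, g ∉ W →
      (g ^ p ∈ W) ∧ ∀ v ∈ U, ∃ k : ℤ, v * (g ^ k)⁻¹ ∈ W := by
    intro U hWU hU g hg hgW
    haveI : (W.subgroupOf U).Normal := (hnor W).subgroupOf U
    have hc : Nat.card (U ⧸ W.subgroupOf U) = p := hU
    refine ⟨?_, fun v hv => ?_⟩
    · have e : (QuotientGroup.mk (⟨g, hg⟩ : U) : U ⧸ W.subgroupOf U) ^ p = 1 := by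
        rw [← hc]; exact pow_card_eq_one'
      rw [← QuotientGroup.mk_pow, QuotientGroup.eq_one_iff] at e
      exact e
    obtain ⟨k, hk⟩ : QuotientGroup.mk (⟨v, hv⟩ : U) ∈
        zpowers (QuotientGroup.mk (⟨g, hg⟩ : U) : U ⧸ W.subgroupOf U) :=
      mem_zpowers_of_prime_card hc (fun e => hgW ((QuotientGroup.eq_one_iff (⟨g, hg⟩ : U)).1 e))
    refine ⟨k, ?_⟩
    have : ((⟨v, hv⟩ : U) * ((⟨g, hg⟩ : U) ^ k)⁻¹) ∈ W.subgroupOf U := by
      rw [← QuotientGroup.eq_one_iff, QuotientGroup.mk_mul, QuotientGroup.mk_inv, QuotientGroup.mk_zpow]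
      exact mul_inv_eq_one.2 hk.symm
    exact this
  have hrel' : W.relIndex Z' = p := by
    have hcard : Nat.card Zc = Nat.card Z' :=
      (card_map_of_injective (K := Zc) (f := α.toMonoidHom) α.injective).symm
    have e1 := relIndex_mul_relIndex ⊥ W Zc bot_le inf_le_left
    have e2 := relIndex_mul_relIndex ⊥ W Z' bot_le inf_le_right
    rw [relIndex_bot_left, relIndex_bot_left] at e1 e2
    refine Nat.eq_of_mul_eq_mul_left (Nat.card_pos : 0 < Nat.card W) ?_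
    rw [e2, ← hcard, ← e1, hrel]
  obtain ⟨-, hgZc⟩ := hgen inf_le_left hrel z₀c hz₀Zc hz₀W
  obtain ⟨hx'p, hgZ'⟩ := hgen inf_le_right hrel' x' hx'Z' fun e => hx'Zc e.1
  -- the conjugate of `u`
  set e' := α * u * α⁻¹ with he'
  have he'F : e' ∈ F.autGroup P :=
    (F.autGroup P).mul_mem ((F.autGroup P).mul_mem hα huF) ((F.autGroup P).inv_mem hα)
  have he'Z' : ∀ v ∈ Z', e' v = v := by
    rintro _ ⟨v, hv, rfl⟩
    show α (u (α⁻¹ (α v))) = α v
    rw [show α⁻¹ (α v) = v from α.symm_apply_apply v, hust.1 v hv]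
  have he'd : e' z₀c * z₀c⁻¹ ∈ Z' := by
    refine ⟨u (α⁻¹ z₀c) * (α⁻¹ z₀c)⁻¹, hust.2 _, ?_⟩
    show α _ = _
    rw [map_mul, map_inv, show α (α⁻¹ z₀c) = z₀c from α.apply_symm_apply _]
    rfl
  set d := e' z₀c * z₀c⁻¹ with hd
  have hdW : d ∉ W := by
    intro hdW
    have he'W : e' ∈ stab W := by
      refine ⟨fun w hw => he'Z' w hw.2, fun v => ?_⟩
      have hv : v ∈ Zc ⊔ Z' := by
        have htop : Zc ⊔ Z' = ⊤ := by
          rw [← index_eq_one]
          have hd' : (Zc ⊔ Z').index ∣ p := hP.index_zIn ▸ index_dvd_of_le le_sup_left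
          refine ((Nat.dvd_prime hp.out).1 hd').resolve_right fun h3 => hx'Zc ?_
          have e1 : (Zc ⊔ Z').index = Zc.index := h3.trans hP.index_zIn.symm
          have e2 := relIndex_mul_index (le_sup_left : Zc ≤ Zc ⊔ Z')
          rw [e1] at e2
          have e3 : Zc.relIndex (Zc ⊔ Z') = 1 := by
            refine Nat.eq_of_mul_eq_mul_right (Nat.pos_of_ne_zero ?_) (e2.trans (one_mul _).symm)
            rw [hP.index_zIn]; exact hp.out.ne_zero
          exact relIndex_eq_one.1 e3 (mem_sup_right hx'Z')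
        rw [htop]; exact mem_top v
      obtain ⟨b, hb, c, hc, rfl⟩ := mem_sup_of_normal_right.1 hv
      obtain ⟨k, hk⟩ := hgZc b hb
      obtain ⟨w, hw, rfl⟩ : ∃ w ∈ W, b = w * z₀c ^ k := ⟨_, hk, (inv_mul_cancel_right b _).symm⟩
      rw [map_mul, map_mul, map_zpow, he'Z' w hw.2, he'Z' c hc]
      have e1 : e' z₀c = d * z₀c := by rw [hd, inv_mul_cancel_right]
      have cm : ∀ s t : P, Commute s t := fun s t => Subtype.ext (comm_of_mem hP.comm s.2 t.2)
      rw [e1, (cm d z₀c).mul_zpow, show w * (d ^ k * z₀c ^ k) * c * (w * z₀c ^ k * c)⁻¹ =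
        w * d ^ k * w⁻¹ by group, (cm w (d ^ k)).eq, mul_inv_cancel_right]
      exact zpow_mem hdW k
    have he1 := hP.eq_one_of_mem_stab hα hne he'F he'W
    have hu1 : u = 1 := by
      rw [he', mul_inv_eq_one] at he1
      exact mul_eq_left.1 he1
    rw [hu1, MulAut.one_apply] at hux
    exact hz₀1 (congrArg Subtype.val (mul_eq_right.1 hux.symm))
  -- the map `l` sending `z₀` to `z₀ x'⁻¹` modulo `W`
  obtain ⟨m, hm⟩ := hgZ' d he'd
  have hmp : ¬ (p : ℤ) ∣ m := by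
    rintro ⟨j, rfl⟩
    refine hdW ?_
    have e := W.mul_mem hm (W.zpow_mem hx'p j)
    rwa [← zpow_natCast, ← zpow_mul, inv_mul_cancel_right] at e
  obtain ⟨a₁, b₁, hab⟩ := Int.isCoprime_iff_gcd_eq_one.2
    (((Nat.prime_iff_prime_int.1 hp.out).coprime_iff_not_dvd.2 hmp).symm |> Int.isCoprime_iff_gcd_eq_one.1)
  have hd1 : ∀ k : ℤ, (e' ^ k) z₀c = d ^ k * z₀c := by
    have e1 : e' z₀c = d * z₀c := by rw [hd, inv_mul_cancel_right]
    have hedz : ∀ j : ℤ, e' (d ^ j) = d ^ j := fun j => he'Z' _ (zpow_mem he'd j)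
    intro k
    induction k using Int.induction_on with
    | zero => simp
    | succ j ih =>
      rw [add_comm, zpow_add, zpow_one, MulAut.mul_apply, ih, map_mul, hedz, e1, zpow_add, zpow_one,
        ← mul_assoc, (Commute.zpow_self d j).eq]
    | pred j ih =>
      refine e'.injective ?_
      rw [← MulAut.mul_apply, ← zpow_one_add, add_sub_cancel, ih, map_mul, hedz, e1, ← mul_assoc,
        ← zpow_add_one, sub_add_cancel]
  set l := e' ^ (-a₁) with hl
  have hlF : l ∈ F.autGroup P := (F.autGroup P).zpow_mem he'F _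
  have hlZ' : ∀ v ∈ Z', l v = v := fun v hv => by
    have hst : e' ∈ MulAction.stabilizer (MulAut P) v := he'Z' v hv
    exact Subgroup.zpow_mem _ hst (-a₁)
  set w₁ := (d * (x' ^ m)⁻¹) ^ (-a₁) * (x' ^ p) ^ b₁ with hw₁
  have hw₁W : w₁ ∈ W := W.mul_mem (W.zpow_mem hm _) (W.zpow_mem hx'p _)
  have cm : ∀ s t : P, Commute s t := fun s t => Subtype.ext (comm_of_mem hP.comm s.2 t.2)
  have hlz : l z₀c = z₀c * x'⁻¹ * w₁ := by
    rw [hl, hd1, hw₁, (cm d (x' ^ m)⁻¹).mul_zpow, inv_zpow, ← zpow_neg, neg_neg, ← zpow_mul,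
      ← zpow_natCast, ← zpow_mul, mul_assoc (d ^ (-a₁)), ← zpow_add,
      show m * a₁ + (p : ℤ) * b₁ = 1 by linarith, zpow_one, (cm (d ^ (-a₁)) z₀c).eq,
      (cm (d ^ (-a₁)) x').eq]
    group
  set w := u * l * u with hwdef
  have hwW : ∀ v ∈ W, w v = v := fun v hv => by
    show u (l (u v)) = v
    rw [hust.1 v hv.1, hlZ' v hv.2, hust.1 v hv.1]
  have hwz : w z₀c = x'⁻¹ * w₁ := by
    show u (l (u z₀c)) = _
    rw [hust.1 z₀c hz₀Zc, hlz, map_mul, map_mul, map_inv, hust.1 z₀c hz₀Zc, hux,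
      hust.1 w₁ hw₁W.1, mul_inv_rev, (cm x'⁻¹ z₀c⁻¹).eq]
    group
  have hwx : w x' = z₀c * w₁ := by
    show u (l (u x')) = _
    rw [hux, map_mul, hlz, hlZ' x' hx'Z', mul_assoc, (cm w₁ x').eq, ← mul_assoc,
      inv_mul_cancel_right, map_mul, hust.1 z₀c hz₀Zc, hust.1 w₁ hw₁W.1]
  set hh := w * w with hhdef
  have hhF : hh ∈ F.autGroup P := by
    have := (F.autGroup P).mul_mem ((F.autGroup P).mul_mem huF hlF) huF
    exact (F.autGroup P).mul_mem this this
  have hhW : ∀ v ∈ W, hh v = v := fun v hv => by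
    rw [hhdef, MulAut.mul_apply, hwW v hv, hwW v hv]
  have hhz : hh z₀c = z₀c⁻¹ := by
    rw [hhdef, MulAut.mul_apply, hwz, map_mul, map_inv, hwx, hwW w₁ hw₁W, mul_inv_rev,
      (cm w₁⁻¹ z₀c⁻¹).eq, inv_mul_cancel_right]
  have hhZc : ∀ b ∈ Zc, hh b ∈ Zc ∧ ∃ (k : ℤ) (v : P), v ∈ W ∧ b = v * z₀c ^ k ∧
      hh b = v * z₀c ^ (-k) := by
    intro b hb
    obtain ⟨k, hk⟩ := hgZc b hb
    have e : hh b = b * (z₀c ^ k)⁻¹ * z₀c ^ (-k) := by
      conv_lhs => rw [← inv_mul_cancel_right b (z₀c ^ k)]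
      rw [map_mul, hhW _ hk, map_zpow, hhz, inv_zpow, ← zpow_neg]
    refine ⟨?_, k, b * (z₀c ^ k)⁻¹, hk, (inv_mul_cancel_right b _).symm, e⟩
    rw [e]
    exact Zc.mul_mem hk.1 (Zc.zpow_mem hz₀Zc _)
  -- restrict to `Z(S)` and extend to `S`
  have hle : zS S ≤ P := hP.zS_le
  set φ : zS S →* Ω := (autHom hh).comp (inclusion hle) with hφ
  have hφF : φ ∈ F.Hom (zS S) := restrict_mem (autGroup_hom_mem hPS hhF) hle
  have hφr : φ.range = zS S := by
    have : Finite (zS S) := finite_of_le inf_le_left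
    exact range_eq_self hφF fun z => (hhZc (inclusion hle z) z.2).1
  obtain ⟨γ, hγ, hγe⟩ := exists_extension h.isPGroup hF hφF hφr
  have hγe' : ∀ (z : S) (hz : (z : Ω) ∈ zS S), (γ z : Ω) = hh ⟨z, hle hz⟩ := fun z hz => hγe ⟨z, hz⟩
  have hdzz : ∀ y : Ω, y ∈ dz S → ∃ k : ℤ, y = z₀ ^ k := fun y hy => by
    have hc : Nat.card (dz S) = p := hdz
    obtain ⟨k, hk⟩ := mem_zpowers_of_prime_card (g' := (⟨y, hy⟩ : dz S)) hc
      (fun e => hz₀1 (congrArg Subtype.val e) : (⟨z₀, hz₀⟩ : dz S) ≠ 1)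
    exact ⟨k, by simpa using (congrArg Subtype.val hk).symm⟩
  have hsup : dz S ⊔ wOut S P α = zS S := by
    refine le_antisymm (sup_le inf_le_right ?_) fun z hz => ?_
    · rintro _ ⟨v, hv, rfl⟩; exact hv.1
    obtain ⟨k, hk⟩ := hgZc ⟨z, hle hz⟩ hz
    have e : z = (z * (z₀ ^ k)⁻¹) * z₀ ^ k := by group
    rw [e, sup_comm]
    exact mul_mem_sup ⟨_, hk, by simp [z₀c]⟩ (zpow_mem hz₀ k)
  refine ⟨hdz, hsup, γ, hγ, fun y hy => ?_, fun z hz => ?_, fun z => ?_⟩
  · obtain ⟨k, hk⟩ := hdzz y hy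
    refine Subtype.ext ?_
    rw [hγe' y hy.2, show (⟨(y : Ω), hle hy.2⟩ : P) = z₀c ^ k from Subtype.ext (by simpa [z₀c] using hk),
      map_zpow, hhz]
    simp [hk, z₀c]
  · obtain ⟨-, k, v, hv, hzv, hzh⟩ := hhZc ⟨z, hle hz⟩ hz
    rw [Subgroup.coe_mul, Subgroup.coe_inv, hγe' z hz, hzh]
    have ez : (z : Ω) = v * z₀ ^ k := by simpa [z₀c] using congrArg Subtype.val hzv
    rw [ez]
    have e2 : ((v * z₀c ^ (-k) : P) : Ω) * ((v : Ω) * z₀ ^ k)⁻¹ = z₀ ^ (-k + -k) := by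
      have e3 : v * z₀c ^ (-k) * (v * z₀c ^ k)⁻¹ = z₀c ^ (-k + -k) := by
        rw [mul_inv_rev, (cm v (z₀c ^ (-k))).eq, zpow_add, ← zpow_neg]
        rw [(cm (z₀c ^ (-k)) v⁻¹).eq]
        group
      simpa [z₀c] using congrArg Subtype.val e3
    rw [e2]
    exact zpow_mem hz₀ _
  · constructor
    · rintro ⟨v, hv, hvz⟩
      have hz : (z : Ω) ∈ zS S := hvz ▸ hv.1
      refine ⟨hz, Subtype.ext ?_⟩
      rw [hγe' z hz, show (⟨(z : Ω), hle hz⟩ : P) = v from Subtype.ext hvz.symm, hhW v hv]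
      exact hvz
    · rintro ⟨hz, hfix⟩
      obtain ⟨-, k, v, hv, hzv, hzh⟩ := hhZc ⟨z, hle hz⟩ hz
      refine ⟨⟨z, hle hz⟩, ?_, rfl⟩
      have e : hh ⟨z, hle hz⟩ = ⟨z, hle hz⟩ := Subtype.ext ((hγe' z hz).symm.trans (by rw [hfix]))
      rw [hzh, hzv, mul_right_inj] at e
      have hk2 : z₀c ^ (2 * k) = 1 := by
        rw [two_mul, zpow_add]
        nth_rewrite 1 [← e]
        rw [← zpow_add, neg_add_cancel, zpow_zero]
      have hz₀p : z₀c ^ (p : ℤ) = 1 := by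
        rw [zpow_natCast]
        have e' : (⟨z₀, hz₀⟩ : dz S) ^ p = 1 := by rw [← hdz]; exact pow_card_eq_one'
        exact Subtype.ext (by simpa using congrArg Subtype.val e')
      have hk : z₀c ^ k = 1 := by
        obtain ⟨s, hs⟩ : Odd p := hp.out.odd_of_ne_two hp2
        have : z₀c ^ k = z₀c ^ ((p : ℤ) * k) * (z₀c ^ (2 * k)) ^ (-(s : ℤ)) := by
          rw [← zpow_mul, ← zpow_add]
          congr 1
          rw [hs]; push_cast; ring
        rw [this, zpow_mul, hz₀p, hk2, one_zpow, one_zpow, one_mul]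
      rw [hzv, hk, mul_one]
      exact hv

end AbEss

end Cfsg.Agent.Lib.AbelianMaximal

namespace Cfsg.Agent.Lib.AbelianMaximal

open Subgroup Cfsg
open Cfsg.FusionSystem hiding inv_mem conj_mem
open Cfsg.Agent.Lib Cfsg.Agent.Lib.Fusion

variable {Ω : Type*} [Group Ω] {S : Subgroup Ω} {p : ℕ} [hp : Fact p.Prime] {F : FusionSystem S}
  {A : Subgroup Ω} [Finite S]

theorem map_eq_self_of_forall_mem {P : Subgroup Ω} [Finite P] {Q : Subgroup P} {β : MulAut P}
    (hb : ∀ u ∈ Q, β u ∈ Q) : Q.map β.toMonoidHom = Q :=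
  eq_of_le_of_card_ge (map_le_iff_le_comap.2 hb)
    (card_map_of_injective (K := Q) (f := β.toMonoidHom) β.injective).ge

theorem center_eq_zIn (h : Setting p S A) (hF : F.IsSaturated p) {P : Subgroup Ω}
    (hP : F.IsEssential p P) (hPA : P ≠ A) (hPc : ¬ IsMulCommutative P) :
    center P = zIn S P := by
  obtain ⟨x, hxP, hx, hxA, -, -, hidx⟩ := nonabelian_case h hF hP hPA hPc
  refine le_antisymm (fun u hu => ?_) fun u hu => mem_center_iff.2 fun v =>
    Subtype.ext (mem_centralizer_iff.1 hu.2 v (hP.1.1 v.2))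
  have hc := mem_center_iff.1 hu
  by_cases huA : (u : Ω) ∈ A
  · exact h.mem_zS_of_commute hx hxA huA (congrArg Subtype.val (hc ⟨x, hxP⟩)).symm
  · exfalso
    have hle : P ⊓ A ≤ zS S := fun b hb => h.mem_zS_of_commute (hP.1.1 u.2) huA hb.2
      (congrArg Subtype.val (hc ⟨b, hb.1⟩))
    rw [show (zS S).subgroupOf (P ⊓ A) = ⊤ from subgroupOf_eq_top.2 hle, index_top] at hidx
    exact hp.out.ne_one hidx.symm

/-- The conclusion of the core-free case. -/
theorem core_free_structure (h : Setting p S A) (hF : F.IsSaturated p) (hp2 : p ≠ 2)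
    (hcore : F.core = ⊥) (hAe : ¬ F.IsEssential p A) :
    (∃ x ∈ S, x ∉ A ∧ F.IsEssential p (zS S ⊔ zpowers x)) ∧
      zS S ≤ (commutator S).map S.subtype ∧
      ∀ n : ℕ, Nat.card S = p ^ n → 3 ≤ n → Subgroup.lowerCentralSeries S (n - 2) ≠ ⊥ := by
  have hne : ∀ P, F.IsEssential p P → P ≠ A := fun P hP e => hAe (e ▸ hP)
  have : Finite (zS S) := finite_of_le (inf_le_left : zS S ≤ S)
  have hZ1 : zS S ≠ ⊥ := by
    intro e
    have : Nontrivial S := by
      by_contra hc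
      rw [not_nontrivial_iff_subsingleton] at hc
      exact h.not_comm ⟨⟨fun a b => Subsingleton.elim _ _⟩⟩
    have := h.isPGroup.center_nontrivial
    obtain ⟨c, hc1⟩ := exists_ne (1 : center S)
    have hc : ((c : S) : Ω) ∈ zS S := (mem_center_iff_mem_zS _).1 c.2
    rw [e, mem_bot] at hc
    exact hc1 (Subtype.ext (Subtype.ext hc))
  have hinvS : ∀ β ∈ F.autGroup S,
      ((zS S).subgroupOf S).map β.toMonoidHom = (zS S).subgroupOf S := fun β _ =>
    map_eq_self_of_forall_mem fun u hu => mem_subgroupOf.2 ((mem_zS_map_aut β).2 hu)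
  have hinvN : ∀ P, F.IsEssential p P → ¬ IsMulCommutative P → ∀ β : MulAut P,
      ∀ u ∈ zIn S P, β u ∈ zIn S P := by
    intro P hP hc β u hu
    rw [← center_eq_zIn h hF hP (hne P hP) hc] at hu ⊢
    rw [mem_center_iff] at hu ⊢
    intro v
    obtain ⟨v, rfl⟩ := β.surjective v
    rw [← map_mul, ← map_mul, hu v]
  -- some essential subgroup is abelian
  obtain ⟨P₀, hP₀e, hP₀c⟩ : ∃ P, F.IsEssential p P ∧ IsMulCommutative P := by
    by_contra hcon
    push Not at hcon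
    refine hZ1 (eq_bot_iff.2 (hcore ▸ le_core (isNormal_of_aut h.isPGroup hF ?_)))
    rintro P (rfl | hP)
    · exact ⟨inf_le_left, hinvS⟩
    · have := finite_of_le hP.1.1
      exact ⟨(exists_data h hF hP (hne P hP)).1, fun β _ =>
        map_eq_self_of_forall_mem (hinvN P hP (hcon P hP) β)⟩
  have hP₀ : AbEss h hF P₀ := ⟨hP₀e, hne P₀ hP₀e, hP₀c⟩
  obtain ⟨α₀, hα₀, hα₀ne⟩ := hP₀.exists_moving
  obtain ⟨hdz, hsup, γ, hγ, hγ1, hγ2, hγ3⟩ := hP₀.exists_gamma hα₀ hα₀ne hp2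
  set W := AbEss.wOut S P₀ α₀ with hW
  have hWz : W ≤ zS S := by rintro _ ⟨v, hv, rfl⟩; exact hv.1
  have hsame : ∀ (P : Subgroup Ω) (α : MulAut P), AbEss h hF P → α ∈ F.autGroup P →
      (zIn S P).map α.toMonoidHom ≠ zIn S P → AbEss.wOut S P α = W := by
    intro P α hP hα hne'
    obtain ⟨-, -, γ', hγ', hγ'1, hγ'2, hγ'3⟩ := hP.exists_gamma hα hne' hp2
    have e := eq_on_zS h.isPGroup hF hdz hγ hγ' hγ1 hγ'1 hγ2 hγ'2
    ext z
    constructor
    · intro hz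
      have hzz : z ∈ zS S := by
        obtain ⟨v, hv, rfl⟩ := hz; exact hv.1
      obtain ⟨-, hfix⟩ := (hγ'3 ⟨z, hzz.1⟩).1 hz
      exact (hγ3 ⟨z, hzz.1⟩).2 ⟨hzz, (e _ hzz).trans hfix⟩
    · intro hz
      have hzz := hWz hz
      obtain ⟨-, hfix⟩ := (hγ3 ⟨z, hzz.1⟩).1 hz
      exact (hγ'3 ⟨z, hzz.1⟩).2 ⟨hzz, (e _ hzz).symm.trans hfix⟩
  have hWinv : ∀ β ∈ F.autGroup S, ∀ z : S, (z : Ω) ∈ W → (β z : Ω) ∈ W := by
    intro β hβ z hz
    obtain ⟨hzz, hfix⟩ := (hγ3 z).1 hz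
    have hβi : β⁻¹ ∈ F.autGroup S := Subgroup.inv_mem _ hβ
    have e := eq_on_zS h.isPGroup hF hdz hγ (mul_mem (mul_mem hβ hγ) hβi) hγ1
      (fun d hd => by
        rw [MulAut.mul_apply, MulAut.mul_apply, hγ1 _ (aut_mem_dz β⁻¹ hd), map_inv]
        exact congrArg Inv.inv (β.apply_symm_apply d))
      hγ2 (fun u hu => by
        have h1 := aut_mem_dz β (hγ2 (β⁻¹ u) ((mem_zS_map_aut β⁻¹).2 hu))
        rw [map_mul, map_inv, show β (β⁻¹ u) = u from β.apply_symm_apply u] at h1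
        exact h1) (β z) ((mem_zS_map_aut β).2 hzz)
    refine (hγ3 (β z)).2 ⟨(mem_zS_map_aut β).2 hzz, ?_⟩
    rw [e, MulAut.mul_apply, MulAut.mul_apply, show β⁻¹ (β z) = z from β.symm_apply_apply z, hfix]
  have hnormal : F.IsNormal W := by
    refine isNormal_of_aut h.isPGroup hF ?_
    rintro P (rfl | hP)
    · exact ⟨hWz.trans inf_le_left, fun β hβ => map_eq_self_of_forall_mem fun u hu =>
        mem_subgroupOf.2 (hWinv β hβ u hu)⟩
    have := finite_of_le hP.1.1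
    have hWP : W ≤ P := hWz.trans (exists_data h hF hP (hne P hP)).1
    refine ⟨hWP, fun β hβ => map_eq_self_of_forall_mem fun u hu => ?_⟩
    by_cases hPc : IsMulCommutative P
    · have hP' : AbEss h hF P := ⟨hP, hne P hP, hPc⟩
      obtain ⟨α, hα, hαne⟩ := hP'.exists_moving
      by_cases hβne : (zIn S P).map β.toMonoidHom = zIn S P
      · have hne2 : (zIn S P).map (β * α : MulAut P).toMonoidHom ≠ zIn S P := by
          intro e
          apply hαne
          apply map_injective (f := β.toMonoidHom) β.injective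
          rw [map_map, hβne]
          exact e
        have e1 := hsame P α hP' hα hαne
        have e2 := hsame P _ hP' (mul_mem hβ hα) hne2
        rw [mem_subgroupOf, ← e1] at hu
        obtain ⟨v, ⟨hv1, ⟨v', hv', hvv'⟩⟩, hve⟩ := hu
        obtain rfl : v = u := Subtype.ext hve
        rw [mem_subgroupOf, ← e2]
        refine ⟨β v, ⟨hβne ▸ mem_map_of_mem _ hv1, ⟨v', hv', ?_⟩⟩, rfl⟩
        show β (α v') = β v
        rw [← hvv']; rfl
      · have hne2 : (zIn S P).map (β⁻¹ : MulAut P).toMonoidHom ≠ zIn S P := by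
          intro e
          apply hβne
          conv_lhs => rw [← e]
          rw [map_map]
          convert map_id (zIn S P)
          ext v
          exact congrArg Subtype.val (β.apply_symm_apply v)
        have e1 := hsame P _ hP' (Subgroup.inv_mem _ hβ) hne2
        have e2 := hsame P β hP' hβ hβne
        rw [mem_subgroupOf, ← e1] at hu
        obtain ⟨v, ⟨hv1, ⟨v', hv', hvv'⟩⟩, hve⟩ := hu
        obtain rfl : v = u := Subtype.ext hve
        rw [mem_subgroupOf, ← e2]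
        refine ⟨β v, ⟨?_, mem_map_of_mem _ hv1⟩, rfl⟩
        rw [← hvv']
        show β (β⁻¹ v') ∈ zIn S P
        rw [show β (β⁻¹ v') = v' from β.apply_symm_apply v']
        exact hv'
    · have hle : zS S ≤ P := (exists_data h hF hP (hne P hP)).1
      set φ : zS S →* Ω := (autHom β).comp (inclusion hle)
      have hφF : φ ∈ F.Hom (zS S) := restrict_mem (autGroup_hom_mem hP.1.1 hβ) hle
      have hφr : φ.range = zS S :=
        range_eq_self hφF fun z => hinvN P hP hPc β (inclusion hle z) z.2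
      obtain ⟨γ₁, hγ₁, hγ₁e⟩ := exists_extension h.isPGroup hF hφF hφr
      have hm := hWinv γ₁ hγ₁ ⟨u, hP.1.1 u.2⟩ hu
      have e : (γ₁ ⟨(u : Ω), hP.1.1 u.2⟩ : Ω) = β u := hγ₁e ⟨u, hWz hu⟩
      rw [e] at hm
      exact hm
  have hW1 : W = ⊥ := eq_bot_iff.2 (hcore ▸ le_core hnormal)
  rw [hW1, sup_bot_eq] at hsup
  obtain ⟨-, x, hxP, hxA, -⟩ := exists_data h hF hP₀e (hne P₀ hP₀e)
  have hx := hP₀.le hxP
  refine ⟨⟨x, hx, hxA, hP₀.eq_sup hxP (fun e => hxA (h.zS_le e)) ▸ hP₀e⟩, ?_, fun n hn hn3 => ?_⟩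
  · rw [← hsup]; exact inf_le_left
  · intro hbot
    have hDZ : Nat.card (h.dSub hx ⊓ zS S : Subgroup Ω) = p := by
      rw [← h.commutator_eq_dSub hx hxA]; exact hdz
    have hZp : Nat.card (zS S) = p := by rw [← hsup]; exact hdz
    obtain ⟨k, rfl⟩ : ∃ k, n = k + 3 := ⟨n - 3, by omega⟩
    rw [show k + 3 - 2 = k + 1 by omega] at hbot
    have h1 := h.card_dSub_le_dIter hx hxA hDZ k
    have h2 : h.dIter hx (k + 1) = ⊥ :=
      eq_bot_iff.2 ((h.dIter_le_lowerCentralSeries hx (k + 1)).trans hbot.le)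
    rw [h2, card_bot, one_mul] at h1
    have h3 : Nat.card A * p = Nat.card S := by
      have := (A.subgroupOf S).card_mul_index
      rwa [h.index, Nat.card_congr (subgroupOfEquivOfLe h.le).toEquiv] at this
    have h4 := h.card_dSub_mul hx hxA
    rw [hZp] at h4
    rw [← h4, hn] at h3
    have h5 : p ^ (k + 3) ≤ p ^ (k + 2) := by
      calc p ^ (k + 3) = Nat.card (h.dSub hx) * p * p := h3.symm
        _ ≤ p ^ k * p * p := Nat.mul_le_mul_right _ (Nat.mul_le_mul_right _ h1)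
        _ = p ^ (k + 2) := by ring
    have := (Nat.pow_le_pow_iff_right hp.out.one_lt).1 h5
    omega

end Cfsg.Agent.Lib.AbelianMaximal
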